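import Mathlib
import Cfsg.Agent.H396.Der
import Cfsg.Agent.H394.SqBasic
import Cfsg.Agent.S1163
import Cfsg.Agent.S1155
import Cfsg.Prelude.Def_Sz
import Cfsg.Prelude.Def_LieTwisted
import Cfsg.Agent.H452.FprCyc
import Cfsg.Agent.FastGrp
import Cfsg.Agent.Prune
set_option linter.all false

section
prune_inst 0x7ffffef8bfbcfddeffff7e7ffedddfffb9fedfffffdffb43ffece3ff9fdf038639e5fbad1de0d8ff0ed7e29630b87853f97eaefe6d29dc7ffffd5ff45ffbee1ff7ffbf8951d68c3e0ffc6ffffbf07f8e7f3fffffffffffffffffffffffffffbeffffffffffff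

-- part: H394/SqTI
section
prune_inst 0x100000000000001200000020000000000043000110800402080690200000260140000c020002008000000020040018242000000000000000000000000000400013340c00300000003007180c00000000000000000000000000041000000000000
set_option linter.all false
open scoped Cfsg.Agent.FastGrp

/-!
# Subgroups of index not divisible by `p ^ 2` in groups with TI Sylow `p`-subgroups
-/

set_option autoImplicit false
set_option linter.unusedSectionVars false

namespace Cfsg.Agent.H394.SqTI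

open MulAction Subgroup
open scoped Pointwise

variable {T : Type*} [Group T] [Finite T] {p : ℕ} [hp : Fact p.Prime]

/-- In a `p`-group a subgroup of index dividing `p` contains all commutators. -/
theorem comm_mem_of_index {P : Type*} [Group P] [Finite P] (hP : IsPGroup p P) (H : Subgroup P)
    (h : H.index = 1 ∨ H.index = p) (x y : P) : x * y * x⁻¹ * y⁻¹ ∈ H := by
  rcases h with h | h
  · rw [index_eq_one] at h
    rw [h]; exact mem_top _
  · have hn : H.Normal := by
      apply Subgroup.normal_of_index_eq_minFac_card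
      obtain ⟨k, hk⟩ := IsPGroup.iff_card.1 hP
      rw [h, hk]
      rcases Nat.eq_zero_or_pos k with rfl | hk0
      · exfalso
        have h1 := H.index_dvd_card
        rw [hk, h, pow_zero, Nat.dvd_one] at h1
        exact hp.out.one_lt.ne' h1
      · rw [hp.out.pow_minFac hk0.ne']
    have hc : Nat.card (P ⧸ H) = p := h
    have : IsCyclic (P ⧸ H) := isCyclic_of_prime_card hc
    have hcomm : ∀ a b : P ⧸ H, a * b = b * a := fun a b => IsCyclic.commGroup.mul_comm a b
    rw [← QuotientGroup.eq_one_iff]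
    have e : ((x * y * x⁻¹ * y⁻¹ : P) : P ⧸ H) = (x : P ⧸ H) * y * (x : P ⧸ H)⁻¹ * (y : P ⧸ H)⁻¹ := rfl
    rw [e, hcomm (x : P ⧸ H) y]
    group

omit [Finite T] hp in
/-- A `p`-element normalizing a Sylow `p`-subgroup lies in it. -/
theorem mem_of_mem_normalizer (Q : Sylow p T) {S : Subgroup T} (hS : IsPGroup p S) {x : T}
    (hxS : x ∈ S) (hx : x ∈ normalizer ((Q : Subgroup T) : Set T)) : x ∈ Q := by
  have h1 : IsPGroup p (zpowers x) := hS.to_le (zpowers_le.2 hxS)
  have h2 : zpowers x ≤ normalizer ((Q : Subgroup T) : Set T) := zpowers_le.2 hx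
  have h3 : IsPGroup p (zpowers x ⊔ (Q : Subgroup T) : Subgroup T) :=
    h1.to_sup_of_normal_right' Q.isPGroup' h2
  have h4 : (zpowers x ⊔ (Q : Subgroup T) : Subgroup T) = Q := Q.is_maximal' h3 le_sup_right
  have h5 : x ∈ (zpowers x ⊔ (Q : Subgroup T) : Subgroup T) := mem_sup_left (mem_zpowers x)
  rw [h4] at h5
  exact h5

/-- A semiregular group divides the size of the set. -/
theorem card_dvd_of_semiregular {Q X : Type*} [Group Q] [Finite Q] [MulAction Q X] [Finite X]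
    (hK : ∀ x : X, stabilizer Q x = ⊥) : Nat.card Q ∣ Nat.card X := by
  classical
  have : Fintype (orbitRel.Quotient Q X) := Fintype.ofFinite _
  rw [Nat.card_congr (selfEquivSigmaOrbitsQuotientStabilizer Q X), Nat.card_sigma]
  apply Finset.dvd_sum
  intro ω _
  show Nat.card Q ∣ (stabilizer Q ω.out).index
  rw [hK, index_bot]


/-- In a `p`-group a subgroup of index dividing `p` contains all `p`-th powers. -/
theorem pow_mem_of_index {P : Type*} [Group P] [Finite P] (hP : IsPGroup p P) (H : Subgroup P)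
    (h : H.index = 1 ∨ H.index = p) (x : P) : x ^ p ∈ H := by
  rcases h with h | h
  · rw [index_eq_one] at h
    rw [h]; exact mem_top _
  · have hn : H.Normal := by
      apply Subgroup.normal_of_index_eq_minFac_card
      obtain ⟨k, hk⟩ := IsPGroup.iff_card.1 hP
      rw [h, hk]
      rcases Nat.eq_zero_or_pos k with rfl | hk0
      · exfalso
        have h1 := H.index_dvd_card
        rw [hk, h, pow_zero, Nat.dvd_one] at h1
        exact hp.out.one_lt.ne' h1
      · rw [hp.out.pow_minFac hk0.ne']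
    have := H.pow_index_mem x
    rwa [h] at this

/-- A nontrivial element in all subgroups of index dividing `p`. -/
def Fr (p : ℕ) (P : Type*) [Group P] : Prop :=
  ∃ w : P, w ≠ 1 ∧ ∀ H : Subgroup P, (H.index = 1 ∨ H.index = p) → w ∈ H

theorem fr_of_not_comm {P : Type*} [Group P] [Finite P] (hP : IsPGroup p P) {x y : P}
    (h : x * y ≠ y * x) : Fr p P := by
  refine ⟨x * y * x⁻¹ * y⁻¹, fun h1 => h ?_, fun H hH => comm_mem_of_index hP H hH x y⟩
  exact mul_inv_eq_iff_eq_mul.1 (mul_inv_eq_one.1 h1)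

theorem fr_of_pow {P : Type*} [Group P] [Finite P] (hP : IsPGroup p P) {x : P}
    (h : x ^ p ≠ 1) : Fr p P :=
  ⟨x ^ p, h, fun H hH => pow_mem_of_index hP H hH x⟩

theorem card_orbit_sub (hTI : ∀ P Q : Sylow p T, P ≠ Q → (P : Subgroup T) ⊓ Q = ⊥)
    (P : Sylow p T) (M : Subgroup T) :
    Nat.card (M ⊓ (P : Subgroup T) : Subgroup T) ∣ Nat.card (orbit M P) - 1 := by
  classical
  set O := orbit M P with hO
  have hfixP : ∀ q : (M ⊓ (P : Subgroup T) : Subgroup T), (q : T) • P = P := fun q =>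
    Sylow.smul_eq_iff_mem_normalizer.2 (le_normalizer q.2.2)
  let X : SubMulAction (M ⊓ (P : Subgroup T) : Subgroup T) (Sylow p T) :=
    ⟨O \ {P}, by
      rintro q Q ⟨⟨m, rfl⟩, hQ⟩
      refine ⟨⟨⟨(q : T), q.2.1⟩ * m, ?_⟩, ?_⟩
      · show ((⟨(q : T), q.2.1⟩ : M) * m) • P = (q : T) • (m • P)
        rw [mul_smul]; rfl
      · intro h
        apply hQ
        have h2 : (q : T) • (m • P) = P := h
        have h4 : (q : T) • (m • P) = (q : T) • P := h2.trans (hfixP q).symm
        exact MulAction.injective (q : T) h4⟩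
  have h1 : Nat.card (M ⊓ (P : Subgroup T) : Subgroup T) ∣ (O \ {P}).ncard := by
    have key := card_dvd_of_semiregular (Q := (M ⊓ (P : Subgroup T) : Subgroup T)) (X := X) ?_
    · exact key
    · intro Q
      rw [eq_bot_iff]
      intro q hq
      rw [mem_stabilizer_iff] at hq
      have h2 : (q : T) • (Q : Sylow p T) = Q := congrArg Subtype.val hq
      have h3 := mem_of_mem_normalizer (Q : Sylow p T) P.isPGroup' q.2.2
        (Sylow.smul_eq_iff_mem_normalizer.1 h2)
      have h4 : (q : T) ∈ (P : Subgroup T) ⊓ (Q : Sylow p T) := ⟨q.2.2, h3⟩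
      rw [hTI P Q (fun h => Q.2.2 h.symm), mem_bot] at h4
      rw [mem_bot]
      exact Subtype.ext h4
  have h2 : (O \ {P}).ncard = O.ncard - 1 := Set.ncard_sdiff_singleton_of_mem (mem_orbit_self P)
  rw [h2, ← Nat.card_coe_set_eq] at h1
  exact h1

/-- The number of Sylow subgroups. -/
theorem card_sylow_eq [IsSimpleGroup T] (hTI : ∀ P Q : Sylow p T, P ≠ Q → (P : Subgroup T) ⊓ Q = ⊥)
    (P : Sylow p T) {h : ℕ} (hP : p ∣ Nat.card P) (hord : Nat.card T = Nat.card P * ((Nat.card P + 1) * h))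
    (hlt : h < Nat.card P) : Nat.card (Sylow p T) = 1 + Nat.card P := by
  obtain ⟨n, hn⟩ : ∃ n, Nat.card (Sylow p T) = n := ⟨_, rfl⟩
  obtain ⟨Q, hQ⟩ : ∃ Q, Nat.card P = Q := ⟨_, rfl⟩
  have hT0 : 0 < Nat.card T := Nat.card_pos
  have hdvd : n ∣ (Q + 1) * h := by
    have h1 := P.card_dvd_index
    rw [hn] at h1
    have h2 := (P : Subgroup T).card_mul_index
    rw [hord, hQ] at h2
    rw [hQ] at hord
    have h3 : 0 < Q := by
      rcases Nat.eq_zero_or_pos Q with h3 | h3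
      · rw [h3, zero_mul] at hord; omega
      · exact h3
    rwa [Nat.eq_of_mul_eq_mul_left h3 h2] at h1
  have hmod : Q ∣ n - 1 := by
    have h1 := card_orbit_sub hTI P (⊤ : Subgroup T)
    rw [top_inf_eq] at h1
    have h2 : Nat.card (orbit (⊤ : Subgroup T) P) = n := by
      have : orbit (⊤ : Subgroup T) P = Set.univ := by
        rw [Set.eq_univ_iff_forall]
        intro R
        obtain ⟨g, hg⟩ := _root_.MulAction.exists_smul_eq T P R
        exact ⟨⟨g, mem_top g⟩, hg⟩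
      rw [this, Nat.card_coe_set_eq, Set.ncard_univ, hn]
    rw [h2] at h1
    rw [← hQ]; exact h1
  have hn0 : 0 < n := by rw [← hn]; exact Nat.card_pos
  obtain ⟨k, hk⟩ := hmod
  have hnk : n = 1 + k * Q := by rw [mul_comm k]; omega
  obtain ⟨c, hc⟩ := hdvd
  rw [hQ] at hlt hP
  have hQ1 : 1 < Q := by
    have := Nat.le_of_dvd (by omega) hP
    have := hp.out.one_lt
    omega
  have hh0 : 0 < h := by
    rcases Nat.eq_zero_or_pos h with h3 | h3
    · rw [h3, mul_zero, mul_zero] at hord; omega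
    · exact h3
  have hk0 : k ≠ 0 := by
    rintro rfl
    have hn1 : n = 1 := by omega
    have h1 := P.card_eq_index_normalizer
    rw [hn, hn1] at h1
    have h2 : (P : Subgroup T).Normal := by
      rw [← normalizer_eq_top_iff, ← index_eq_one]
      exact h1.symm
    rcases IsSimpleGroup.eq_bot_or_eq_top_of_normal (P : Subgroup T) h2 with h3 | h3
    · have h4 : Nat.card P = 1 := by
        show Nat.card (P : Subgroup T) = 1
        rw [h3]; exact card_bot
      omega
    · have h4 : Nat.card P = Nat.card T := by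
        show Nat.card (P : Subgroup T) = _
        rw [h3]; exact card_top
      rw [hQ] at h4
      rw [← h4, hQ] at hord
      have h5 : Q * 1 = Q * ((Q + 1) * h) := by rw [mul_one]; exact hord
      have h6 := Nat.eq_of_mul_eq_mul_left (by omega) h5
      have h7 : Q + 1 ≤ (Q + 1) * h := Nat.le_mul_of_pos_right _ hh0
      omega
  have hch : h ≤ c := by
    by_contra hlt'
    push Not at hlt'
    have h1 : (Q * h + h : ℤ) = (c : ℤ) + (k * c) * Q := by
      have : ((Q + 1) * h : ℤ) = (n : ℤ) * c := by exact_mod_cast hc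
      rw [hnk] at this
      push_cast at this
      linarith only [this]
    have h2 : (Q : ℤ) ∣ (h : ℤ) - c := ⟨k * c - h, by linarith only [h1]⟩
    have h3 := Int.le_of_dvd (by omega) h2
    omega
  have h1 : n * h ≤ (Q + 1) * h := by rw [hc]; exact Nat.mul_le_mul_left _ hch
  have h2 := Nat.le_of_mul_le_mul_right h1 hh0
  have h3 : 1 * Q ≤ k * Q := Nat.mul_le_mul_right _ (by omega)
  rw [hn, hQ]
  omega

/-- **Main lemma.** -/
theorem le_normalizer_of_ti [IsSimpleGroup T]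
    (hTI : ∀ P Q : Sylow p T, P ≠ Q → (P : Subgroup T) ⊓ Q = ⊥)
    (hcount : ∀ P : Sylow p T, Nat.card (Sylow p T) = 1 + Nat.card P)
    (hna : ∀ P : Sylow p T, Fr p (P : Subgroup T))
    (hnum : ∀ P : Sylow p T, ∀ m, 1 ≤ m → m < p → ¬ (1 + m * (Nat.card P / p)) ∣ Nat.card T)
    (M : Subgroup T) (hM : M ≠ ⊤) (hp2 : ¬ p ^ 2 ∣ M.index) :
    ∃ P : Sylow p T, M ≤ normalizer ((P : Subgroup T) : Set T) := by
  classical
  obtain ⟨S⟩ := (inferInstance : Nonempty (Sylow p M))
  obtain ⟨P, hSP⟩ := S.exists_comap_subtype_eq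
  refine ⟨P, ?_⟩
  by_contra hcon
  -- the index of `M ⊓ P` in `P`
  have hSP' : (P : Subgroup T).subgroupOf M = S := hSP
  have hcardS : Nat.card S = p ^ (Nat.card M).factorization p := S.card_eq_multiplicity
  have hcardP : Nat.card P = p ^ (Nat.card T).factorization p := P.card_eq_multiplicity
  have hMP : Nat.card (M ⊓ (P : Subgroup T) : Subgroup T) = Nat.card S := by
    rw [← hSP', inf_comm]
    exact (Nat.card_congr (subgroupOfEquivOfLe (inf_le_right : (P : Subgroup T) ⊓ M ≤ M)).toEquiv).symm.trans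
      (by rw [inf_subgroupOf_right])
  have hrel : (M.relIndex (P : Subgroup T)) * Nat.card S = Nat.card P := by
    have h1 := (M.subgroupOf (P : Subgroup T)).card_mul_index
    have h2 : Nat.card (M.subgroupOf (P : Subgroup T)) = Nat.card S := by
      rw [← hMP, ← inf_subgroupOf_right]
      exact Nat.card_congr (subgroupOfEquivOfLe inf_le_right).toEquiv
    rw [h2, mul_comm] at h1
    exact h1
  have hidx : M.relIndex (P : Subgroup T) = 1 ∨ M.relIndex (P : Subgroup T) = p := by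
    have h1 : Nat.card M * M.index = Nat.card T := M.card_mul_index
    have h2 : (Nat.card T).factorization p =
        (Nat.card M).factorization p + M.index.factorization p := by
      rw [← h1, Nat.factorization_mul Nat.card_pos.ne' index_ne_zero_of_finite]
      rfl
    have h3 : M.index.factorization p < 2 := by
      by_contra h
      exact hp2 ((hp.out.pow_dvd_iff_le_factorization index_ne_zero_of_finite).2 (by omega))
    have h4 : M.relIndex (P : Subgroup T) = p ^ M.index.factorization p := by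
      rw [hcardS, hcardP, h2, pow_add] at hrel
      rw [mul_comm] at hrel
      exact Nat.eq_of_mul_eq_mul_left (pow_pos hp.out.pos _) hrel
    rw [h4]
    interval_cases M.index.factorization p
    · left; rw [pow_zero]
    · right; rw [pow_one]
  -- the orbit of `P` under `M`
  have hstab : ∀ g ∈ M, g • P = P ↔ g ∈ normalizer ((P : Subgroup T) : Set T) := by
    intro g _
    exact Sylow.smul_eq_iff_mem_normalizer
  set O := orbit M P with hO
  have hOfin : O.Finite := Set.toFinite _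
  -- `S` acts semiregularly on the rest
  have hdvd : Nat.card S ∣ Nat.card O - 1 := by
    have h1 := card_orbit_sub hTI P M
    rwa [hMP] at h1
  obtain ⟨m, hm⟩ := hdvd
  have hOpos : 0 < Nat.card O := by
    rw [Nat.card_coe_set_eq]
    exact (Set.ncard_pos hOfin).2 ⟨P, mem_orbit_self P⟩
  have hOm : Nat.card O = 1 + m * Nat.card S := by rw [mul_comm m]; omega
  have hOle : Nat.card O ≤ Nat.card (Sylow p T) := by
    rw [Nat.card_coe_set_eq, ← Set.ncard_univ]
    exact Set.ncard_le_ncard (Set.subset_univ _)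
  have hOdvd : Nat.card O ∣ Nat.card T := by
    rw [Nat.card_coe_set_eq, ← MulAction.index_stabilizer]
    exact (index_dvd_card _).trans (card_subgroup_dvd_card M)
  rw [hcount P] at hOle
  have hSpos : 0 < Nat.card S := Nat.card_pos
  have hm0 : m ≠ 0 := by
    rintro rfl
    rw [zero_mul, add_zero] at hOm
    apply hcon
    intro g hg
    rw [← hstab g hg]
    have h1 : O = {P} := by
      rw [Nat.card_coe_set_eq, Set.ncard_eq_one] at hOm
      obtain ⟨a, ha⟩ := hOm
      have : P ∈ O := mem_orbit_self P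
      rw [ha, Set.mem_singleton_iff] at this
      rw [ha, this]
    have h2 : (⟨g, hg⟩ : M) • P ∈ O := mem_orbit P _
    rw [h1] at h2
    exact h2
  -- the orbit is everything
  have hall : Nat.card O = 1 + Nat.card P := by
    rcases hidx with h | h
    · rw [h, one_mul] at hrel
      rw [← hrel] at hOle ⊢
      have h1 : m * Nat.card S ≤ 1 * Nat.card S := by rw [one_mul]; omega
      have h2 := Nat.le_of_mul_le_mul_right h1 hSpos
      have h3 : m = 1 := by omega
      rw [hOm, h3, one_mul]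
    · rw [h] at hrel
      have hdiv : Nat.card P / p = Nat.card S := by
        rw [← hrel]; exact Nat.mul_div_cancel_left _ hp.out.pos
      have h1 : m * Nat.card S ≤ p * Nat.card S := by rw [hrel]; omega
      have h2 := Nat.le_of_mul_le_mul_right h1 hSpos
      have h3 : ¬ m < p := by
        intro h3
        apply hnum P m (by omega) h3
        rw [hdiv, ← hOm]
        exact hOdvd
      have h4 : m = p := by omega
      rw [hOm, h4, hrel]
  have hOuniv : O = Set.univ := by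
    apply Set.eq_of_subset_of_ncard_le (Set.subset_univ _)
    rw [Set.ncard_univ, ← Nat.card_coe_set_eq, hall, hcount P]
  -- the element `w`
  obtain ⟨w, hw1, hw⟩ := hna P
  have hconj : ∀ c : T, c * w * c⁻¹ ∈ M := by
    intro c
    have hQ : c • P ∈ O := by rw [hOuniv]; exact Set.mem_univ _
    obtain ⟨m', hm'⟩ := hQ
    have hm'' : (m' : T) • P = c • P := hm'
    have h1 : (MulAut.conj c • (P : Subgroup T)) = MulAut.conj (m' : T) • (P : Subgroup T) := by
      have := congrArg (fun R : Sylow p T => (R : Subgroup T)) hm''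
      exact this.symm
    have h2 : MulAut.conj (m' : T) • M = M := Subgroup.conj_smul_eq_self_of_mem m'.2
    have h3 : (MulAut.conj c⁻¹ • M).relIndex (P : Subgroup T) = M.relIndex (P : Subgroup T) := by
      rw [← Subgroup.relIndex_pointwise_smul (MulAut.conj c) (MulAut.conj c⁻¹ • M) (P : Subgroup T),
        ← mul_smul, ← map_mul, mul_inv_cancel, map_one, one_smul, h1]
      have h5 := Subgroup.relIndex_pointwise_smul (MulAut.conj (m' : T)) M (P : Subgroup T)
      rwa [h2] at h5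
    have h4 : (w : T) ∈ MulAut.conj c⁻¹ • M := by
      have := hw ((MulAut.conj c⁻¹ • M).subgroupOf (P : Subgroup T)) (by
        have h5 : ((MulAut.conj c⁻¹ • M).subgroupOf (P : Subgroup T)).index =
          M.relIndex (P : Subgroup T) := h3
        rw [h5]; exact hidx)
      exact this
    rw [Subgroup.mem_pointwise_smul_iff_inv_smul_mem] at h4
    have e : (MulAut.conj c⁻¹)⁻¹ • (w : T) = c * w * c⁻¹ := by
      rw [← map_inv, inv_inv]; rfl
    rwa [e] at h4
  have hN : Subgroup.normalClosure {(w : T)} = ⊤ := by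
    rcases IsSimpleGroup.eq_bot_or_eq_top_of_normal
      (Subgroup.normalClosure {(w : T)}) inferInstance with h | h
    · exfalso
      have h1 : (w : T) ∈ Subgroup.normalClosure {(w : T)} := Subgroup.subset_normalClosure rfl
      rw [h, mem_bot] at h1
      exact hw1 (Subtype.ext h1)
    · exact h
  apply hM
  rw [eq_top_iff, ← hN, Subgroup.normalClosure, closure_le]
  intro z hz
  obtain ⟨w', hw', hwz⟩ := Group.mem_conjugatesOfSet_iff.1 hz
  rw [Set.mem_singleton_iff] at hw'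
  rw [hw'] at hwz
  obtain ⟨c, rfl⟩ := isConj_iff.1 hwz
  exact hconj c

/-- **Groups with TI Sylow `p`-subgroups of order `Q`, of order `Q (Q + 1) h`.** -/
theorem der_of_ti [IsSimpleGroup T]
    (hTI : ∀ P Q : Sylow p T, P ≠ Q → (P : Subgroup T) ⊓ Q = ⊥)
    (hna : ∀ P : Sylow p T, Fr p (P : Subgroup T)) {Q Q1 h k r : ℕ} (hQ : Q = p * Q1) (hQ1 : Q1 = p ^ k)
    (hord : Nat.card T = Q * ((Q + 1) * h)) (hph : ¬ p ∣ h) (hlt : h < Q1)
    (hnum : ∀ m, 1 ≤ m → m < p → ∀ j, j * (1 + m * Q1) ≠ (p - m) * h)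
    (hr : r.Prime) (hrQ : r ∣ Q + 1) (hrh : ¬ r ∣ h)
    (M : Subgroup T) (hM : M ≠ ⊤) (hp2 : ¬ p ^ 2 ∣ M.index) : Cfsg.Agent.H396.Der T M := by
  classical
  have hh0 : 0 < h := Nat.pos_of_ne_zero (fun h0 => hph (h0 ▸ dvd_zero p))
  have hk0 : k ≠ 0 := by rintro rfl; rw [pow_zero] at hQ1; omega
  have hpQ1 : p ∣ Q1 := hQ1 ▸ dvd_pow_self p hk0
  have hpQ : ¬ p ∣ Q + 1 := by
    intro h1
    have h2 : p ∣ Q := ⟨Q1, hQ⟩
    exact hp.out.one_lt.ne' (Nat.dvd_one.1 ((Nat.dvd_add_right h2).1 h1))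
  have hcardP : ∀ P : Sylow p T, Nat.card P = Q := by
    intro P
    rw [P.card_eq_multiplicity, hord]
    have h1 : Q = p ^ (k + 1) := by rw [hQ, hQ1, pow_succ']
    have h2 : ¬ p ∣ (Q + 1) * h := fun h3 => (hp.out.dvd_mul.1 h3).elim hpQ hph
    have hQ0 : Q ≠ 0 := by rw [h1]; exact pow_ne_zero _ hp.out.ne_zero
    have h3 : (Q + 1) * h ≠ 0 := by (clear * - hh0 hQ0; positivity)
    rw [Nat.factorization_mul hQ0 h3, Finsupp.add_apply, Nat.factorization_eq_zero_of_not_dvd h2,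
      add_zero]
    conv_rhs => rw [h1]
    congr 1
    rw [h1, hp.out.factorization_pow, Finsupp.single_eq_same]
  have hQlt : h < Q := by
    have : Q1 ≤ Q := by rw [hQ]; exact Nat.le_mul_of_pos_left _ hp.out.pos
    omega
  have hcount : ∀ P : Sylow p T, Nat.card (Sylow p T) = 1 + Nat.card P := by
    intro P
    apply card_sylow_eq hTI P (h := h)
    · rw [hcardP]; exact ⟨Q1, hQ⟩
    · rw [hcardP]; exact hord
    · rw [hcardP]; exact hQlt
  have hdiv : Q / p = Q1 := by rw [hQ]; exact Nat.mul_div_cancel_left _ hp.out.pos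
  obtain ⟨P, hMP⟩ := le_normalizer_of_ti hTI hcount hna (by
    intro P m hm1 hmp hdvd
    rw [hcardP, hdiv] at hdvd
    have hcop : Nat.Coprime (1 + m * Q1) Q := by
      rw [show Q = p ^ (k + 1) by rw [hQ, hQ1, pow_succ']]
      apply Nat.Coprime.pow_right
      rw [Nat.coprime_comm, hp.out.coprime_iff_not_dvd]
      intro h1
      have h2 : p ∣ m * Q1 := hpQ1.mul_left m
      exact hp.out.one_lt.ne' (Nat.dvd_one.1 ((Nat.dvd_add_left h2).1 h1))
    rw [hord] at hdvd
    obtain ⟨a, ha⟩ := hcop.dvd_of_dvd_mul_left hdvd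
    have hah : h ≤ a := by
      by_contra hlt'
      push Not at hlt'
      have h1 : (((p : ℤ) * Q1 + 1) * h) = (1 + m * Q1) * a := by
        rw [hQ] at ha
        exact_mod_cast ha
      have h2 : (Q1 : ℤ) ∣ (h : ℤ) - a := ⟨m * a - p * h, by linarith only [h1]⟩
      have h3 := Int.le_of_dvd (by omega) h2
      omega
    have h1 : (((p : ℤ) * Q1 + 1) * h) = (1 + m * Q1) * a := by
      rw [hQ] at ha
      exact_mod_cast ha
    have h2 : (Q1 : ℤ) ∣ (a : ℤ) - h := ⟨p * h - m * a, by linarith only [h1]⟩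
    obtain ⟨j, hj⟩ := h2
    have hQ1pos : (0 : ℤ) < Q1 := by omega
    have hj0 : 0 ≤ j := by
      by_contra hneg
      push Not at hneg
      have : (Q1 : ℤ) * j < 0 := mul_neg_of_pos_of_neg hQ1pos hneg
      omega
    obtain ⟨j', rfl⟩ := Int.eq_ofNat_of_zero_le hj0
    apply hnum m hm1 hmp j'
    have h3 : (a : ℤ) = h + Q1 * j' := by linarith only [hj]
    rw [h3] at h1
    have h4 : (Q1 : ℤ) * ((j' : ℤ) * (1 + m * Q1)) = Q1 * ((p - m) * h) := by
      linear_combination -h1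
    have h5 := mul_left_cancel₀ hQ1pos.ne' h4
    have h6 : ((p - m : ℕ) : ℤ) = (p : ℤ) - m := by
      push_cast [Nat.cast_sub hmp.le]; ring
    have h7 : ((j' * (1 + m * Q1) : ℕ) : ℤ) = (((p - m) * h : ℕ) : ℤ) := by
      push_cast [h6]
      exact h5
    exact_mod_cast h7) M hM hp2
  apply Cfsg.Agent.H396.der_of_prime hr
  · rw [hord]
    exact (hrQ.mul_right h).mul_left Q
  · intro h1
    have h2 : Nat.card (normalizer ((P : Subgroup T) : Set T)) * (1 + Q) = Nat.card T := by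
      have h5 : Nat.card (Sylow p T) = (normalizer ((P : Subgroup T) : Set T)).index :=
        P.card_eq_index_normalizer
      rw [hcount P, hcardP] at h5
      have h6 := (normalizer ((P : Subgroup T) : Set T)).card_mul_index
      rwa [← h5] at h6
    have h3 : Nat.card (normalizer ((P : Subgroup T) : Set T)) = Q * h := by
      rw [hord] at h2
      have h4 : Nat.card (normalizer ((P : Subgroup T) : Set T)) * (1 + Q) = Q * h * (1 + Q) := by
        rw [h2]; ring
      exact Nat.eq_of_mul_eq_mul_right (by omega) h4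
    have h4 := h1.trans (card_dvd_of_le hMP)
    rw [h3, hr.dvd_mul] at h4
    rcases h4 with h4 | h4
    · exact hr.one_lt.ne' (Nat.dvd_one.1 ((Nat.dvd_add_right h4).1 hrQ))
    · exact hrh h4

end Cfsg.Agent.H394.SqTI
end

-- part: H394/SqSzRee
section
prune_inst 0x340400220000000000000000044012000000000880012000020006808c4080000820a0200000000080040030006815101824620000000a000000011800800000020080080000000000000004000000000000000000000000000000000000000000000
set_option linter.all false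
open scoped Cfsg.Agent.FastGrp

/-!
# `SQ` for the Suzuki and the Ree groups of rank one
-/

set_option autoImplicit false

namespace Cfsg.Agent.H394.SqSzRee

open MulAction Subgroup Cfsg.Agent.H396 Cfsg.Agent.H394.SqTI Cfsg.Agent.H394.SqBasic

theorem simple_of_equiv {T S : Type*} [Group T] [Group S] [IsSimpleGroup T] (e : T ≃* S) :
    IsSimpleGroup S := by
  haveI : Nontrivial S := e.symm.toEquiv.nontrivial
  exact IsSimpleGroup.isSimpleGroup_of_surjective e.toMonoidHom e.surjective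

/-- one `p`-element suffices -/
theorem fr_all {T : Type*} [Group T] [Finite T] {p : ℕ} [hp : Fact p.Prime] {x : T} {k : ℕ}
    (hx : x ^ p ^ k = 1) (hx1 : x ^ p ≠ 1) (P : Sylow p T) : Fr p (P : Subgroup T) := by
  have h1 : IsPGroup p (zpowers x) := by
    intro y
    obtain ⟨y, n, rfl⟩ := y
    refine ⟨k, Subtype.ext ?_⟩
    show (x ^ n) ^ p ^ k = 1
    rw [← zpow_natCast, ← zpow_mul, mul_comm, zpow_mul, zpow_natCast, hx, one_zpow]
  obtain ⟨R, hR⟩ := h1.exists_le_sylow
  obtain ⟨g, hg⟩ := exists_smul_eq T R P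
  have hxR : x ∈ (R : Subgroup T) := hR (mem_zpowers x)
  have h2 : g * x * g⁻¹ ∈ (P : Subgroup T) := by
    rw [← hg, Sylow.smul_def]
    exact ⟨x, hxR, rfl⟩
  refine fr_of_pow P.isPGroup' (x := ⟨_, h2⟩) ?_
  intro h3
  have h4 : (g * x * g⁻¹) ^ p = 1 := congrArg Subtype.val h3
  rw [conj_pow] at h4
  apply hx1
  have h5 : x ^ p = g⁻¹ * (g * x ^ p * g⁻¹) * g := by group
  rw [h5, h4]; group

theorem not_sq_dvd {d p : ℕ} (hp : p.Prime) (hd : Squarefree d) : ¬ p ^ 2 ∣ d := by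
  intro h
  rw [pow_two] at h
  exact hp.one_lt.ne' (Nat.isUnit_iff.1 (hd p h))

/-- **The Ree groups.** -/
theorem sq_ree {T : Type*} [Group T] [Finite T] [IsSimpleGroup T] (h : Cfsg.Lie.IsoRee T) : SQ T := by
  obtain ⟨K, iK, iK', m, hm, hK, ⟨e⟩⟩ := h
  refine SQ.congr e.symm ?_
  have hs : IsSimpleGroup ↥(Cfsg.Lie.twistedG2 K (3 ^ m)) := simple_of_equiv e
  have hf : Finite ↥(Cfsg.Lie.twistedG2 K (3 ^ m)) := Finite.of_equiv T e.toEquiv
  obtain ⟨U, h, n, D⟩ := Cfsg.Agent.ChevalleyStructure.Ree.Data.exists_data hK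
  have : Fact (Nat.Prime 3) := ⟨Nat.prime_three⟩
  have hchar : (3 : K) = 0 := by
    have h1 : ((Fintype.card K : ℕ) : K) = 0 := FiniteField.cast_card_eq_zero K
    rw [hK, Nat.cast_pow] at h1
    exact pow_eq_zero_iff (by omega) |>.1 h1
  intro M hM hsq
  left
  obtain ⟨q, hq⟩ : ∃ q, q = 3 ^ (2 * m + 1) := ⟨_, rfl⟩
  have hcard := Cfsg.Agent.LieRecognition.ReeSylowThree.card_eq D
  rw [hK, ← hq] at hcard
  have hq27 : 27 ≤ q := by
    rw [hq]
    calc 27 = 3 ^ 3 := by norm_num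
      _ ≤ 3 ^ (2 * m + 1) := Nat.pow_le_pow_right (by norm_num) (by omega)
  have h3q : 3 ∣ q := hq ▸ dvd_pow_self 3 (by omega)
  -- the prime
  obtain ⟨r, hr, hrd⟩ := Nat.exists_prime_and_dvd (n := q ^ 2 - q + 1) (by
    have : q * 2 ≤ q ^ 2 := by rw [pow_two]; exact Nat.mul_le_mul_left _ (by omega)
    omega)
  have hqq : q ≤ q ^ 2 := Nat.le_self_pow (by norm_num) q
  have hcube : q ^ 3 + 1 = (q + 1) * (q ^ 2 - q + 1) := by
    zify [hqq]; ring
  refine der_of_ti (p := 3) (T := ↥(Cfsg.Lie.twistedG2 K (3 ^ m))) (Q := q ^ 3) (Q1 := 3 ^ (3 * (2 * m + 1) - 1))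
    (h := q - 1) (k := 3 * (2 * m + 1) - 1) (r := r)
    (fun P Q hPQ => Cfsg.Agent.S1155.result hm hK P Q hPQ) ?_ ?_ rfl ?_ ?_ ?_ ?_ hr ?_ ?_ M hM
    (not_sq_dvd Nat.prime_three hsq)
  · intro P
    have h1 := D.U_mul 1 0 0 1 0 0
    have h2 : U 1 0 0 * U 1 0 0 = U (1 + 1) (-1) 0 := by
      rw [h1]; congr 1 <;> simp
    have h3 : U 1 0 0 * U 1 0 0 * U 1 0 0 = U 0 0 (-1) := by
      rw [h2, D.U_mul]
      have e1 : (1 : K) + 1 + 1 = 0 := by linear_combination hchar
      have e2 : (-1 : K) + 0 - (1 + 1) * 1 ^ (3 ^ (m + 1)) = 0 := by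
        rw [one_pow]; linear_combination -hchar
      have e3 : (0 : K) + 0 - (-1) * 1 - (1 + 1) ^ 2 * 1 ^ (3 ^ (m + 1)) +
          (1 + 1) * 1 * 1 ^ (3 ^ (m + 1)) = -1 := by
        rw [one_pow]; ring
      rw [e1, e2, e3]
    have h4 : (U 1 0 0) ^ 3 = U 0 0 (-1) := by rw [← h3, pow_succ, pow_two]
    have hz : U 0 0 0 = 1 := D.U_zero
    refine fr_all (x := U 1 0 0) (k := 2) ?_ ?_ P
    · rw [show 3 ^ 2 = 3 * 3 by norm_num, pow_mul, h4]
      have h5 : U 0 0 (-1) * U 0 0 (-1) * U 0 0 (-1) = 1 := by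
        rw [D.U_mul, D.U_mul, ← hz]
        congr 1
        · ring
        · simp
        · simp only [zero_mul, mul_zero, sub_zero, add_zero, zero_pow (by positivity : (2:ℕ) ≠ 0)]
          linear_combination -hchar
      rw [← h5, pow_succ, pow_two]
    · rw [h4, ← hz]
      intro h5
      have h6 := (Cfsg.Agent.LieRecognition.ReeSylowThree.U_injective D h5).2.2
      exact (neg_ne_zero.2 one_ne_zero) h6
  · rw [hq, ← pow_mul, ← pow_succ']
    congr 1
    omega
  · rw [hcard]; ring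
  · intro h1
    have h2 : 3 ∣ q - (q - 1) := Nat.dvd_sub h3q h1
    rw [Nat.sub_sub_self (by omega)] at h2
    norm_num at h2
  · have h1 : 3 ^ (2 * m + 1) ≤ 3 ^ (3 * (2 * m + 1) - 1) := Nat.pow_le_pow_right (by norm_num) (by omega)
    rw [← hq] at h1
    omega
  · intro a ha1 ha3 j hj
    have h1 : 3 ^ (2 * m + 1 + 1) ≤ 3 ^ (3 * (2 * m + 1) - 1) := Nat.pow_le_pow_right (by norm_num) (by omega)
    rw [pow_succ, ← hq] at h1
    have h2 : 3 ^ (3 * (2 * m + 1) - 1) ≤ a * 3 ^ (3 * (2 * m + 1) - 1) := Nat.le_mul_of_pos_left _ (by omega)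
    have h4 : (3 - a) * (q - 1) ≤ 2 * (q - 1) := Nat.mul_le_mul_right _ (by omega)
    have h5 : 0 < (3 - a) * (q - 1) := Nat.mul_pos (by omega) (by omega)
    rcases Nat.eq_zero_or_pos j with rfl | hj0
    · rw [zero_mul] at hj
      omega
    · have h3 : 1 + a * 3 ^ (3 * (2 * m + 1) - 1) ≤ j * (1 + a * 3 ^ (3 * (2 * m + 1) - 1)) :=
        Nat.le_mul_of_pos_left _ hj0
      omega
  · rw [hcube]; exact hrd.mul_left _
  · intro h1
    have h2 : r ∣ q ^ 2 - q := by
      have : q ^ 2 - q = q * (q - 1) := by rw [Nat.mul_sub, mul_one, pow_two]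
      rw [this]; exact h1.mul_left _
    exact hr.one_lt.ne' (Nat.dvd_one.1 ((Nat.dvd_add_right h2).1 hrd))

open Cfsg.Agent.LieRecognition.SzMatrix in
/-- **The Suzuki groups.** -/
theorem sq_sz {T : Type*} [Group T] [Finite T] [IsSimpleGroup T] (h : Cfsg.Lie.IsoSuzuki T) : SQ T := by
  obtain ⟨F, iF, iF', m, hm, hF, ⟨e⟩⟩ := h
  refine SQ.congr e.symm ?_
  have hs : IsSimpleGroup ↥(Cfsg.Lie.Sz F (2 ^ (m + 1))) := simple_of_equiv e
  have hf : Finite ↥(Cfsg.Lie.Sz F (2 ^ (m + 1))) := Finite.of_equiv T e.toEquiv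
  have : Fact (Nat.Prime 2) := ⟨Nat.prime_two⟩
  obtain ⟨hcard, S, hS1, hS2, hS3, hS4⟩ := Cfsg.Agent.S1163.result hm hF
  intro M hM hsq
  left
  obtain ⟨q, hq⟩ : ∃ q, q = 2 ^ (2 * m + 1) := ⟨_, rfl⟩
  rw [← hq] at hcard hS1 hS2
  have hq8 : 8 ≤ q := by
    rw [hq]
    calc 8 = 2 ^ 3 := by norm_num
      _ ≤ 2 ^ (2 * m + 1) := Nat.pow_le_pow_right (by norm_num) (by omega)
  have h2q : 2 ∣ q := hq ▸ dvd_pow_self 2 (by omega)
  have hTI0 : ∀ g : ↥(Cfsg.Lie.Sz F (2 ^ (m + 1))), g ∉ normalizer ((S : Subgroup ↥(Cfsg.Lie.Sz F (2 ^ (m + 1)))) : Set ↥(Cfsg.Lie.Sz F (2 ^ (m + 1)))) →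
      ∀ x ∈ (S : Subgroup _), g⁻¹ * x * g ∈ (S : Subgroup _) → x = 1 := by
    intro g hg x hx hgx
    have h1 : (QuotientGroup.mk g : ↥(Cfsg.Lie.Sz F (2 ^ (m + 1))) ⧸
        normalizer ((S : Subgroup ↥(Cfsg.Lie.Sz F (2 ^ (m + 1)))) : Set ↥(Cfsg.Lie.Sz F (2 ^ (m + 1))))) ≠ QuotientGroup.mk 1 := by
      intro h2
      have h3 := QuotientGroup.eq.1 h2
      rw [mul_one] at h3
      exact hg (inv_mem_iff.1 h3)
    obtain ⟨s, hs, huniq⟩ := hS4 _ _ h1 h1
    have h2 := huniq ⟨x, hx⟩ (by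
      show QuotientGroup.mk (x * g) = QuotientGroup.mk g
      rw [QuotientGroup.eq]
      have h5 : (g⁻¹ * x * g)⁻¹ ∈ (S : Subgroup ↥(Cfsg.Lie.Sz F (2 ^ (m + 1)))) := inv_mem hgx
      have h3 := le_normalizer h5
      have h4 : (g⁻¹ * x * g)⁻¹ = (x * g)⁻¹ * g := by group
      rwa [h4] at h3)
    have h3 := huniq 1 (by
      show QuotientGroup.mk (1 * g) = QuotientGroup.mk g
      rw [one_mul])
    exact congrArg Subtype.val (h2.trans h3.symm)
  have hTI : ∀ P Q : Sylow 2 ↥(Cfsg.Lie.Sz F (2 ^ (m + 1))), P ≠ Q →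
      (P : Subgroup ↥(Cfsg.Lie.Sz F (2 ^ (m + 1)))) ⊓ Q = ⊥ := by
    intro P Q hPQ
    obtain ⟨a, rfl⟩ := exists_smul_eq ↥(Cfsg.Lie.Sz F (2 ^ (m + 1))) S P
    obtain ⟨b, rfl⟩ := exists_smul_eq ↥(Cfsg.Lie.Sz F (2 ^ (m + 1))) S Q
    rw [eq_bot_iff]
    rintro x ⟨⟨y, hy, hyx⟩, ⟨z, hz, hzx⟩⟩
    have hyx' : a * y * a⁻¹ = x := hyx
    have hzx' : b * z * b⁻¹ = x := hzx
    have hab : a⁻¹ * b ∉ normalizer ((S : Subgroup ↥(Cfsg.Lie.Sz F (2 ^ (m + 1)))) : Set ↥(Cfsg.Lie.Sz F (2 ^ (m + 1)))) := by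
      intro h1
      apply hPQ
      have h2 : (a⁻¹ * b) • S = S := Sylow.smul_eq_iff_mem_normalizer.2 h1
      rw [mul_smul, inv_smul_eq_iff] at h2
      exact h2.symm
    have h1 := hTI0 _ hab y hy (by
      have : (a⁻¹ * b)⁻¹ * y * (a⁻¹ * b) = z := by
        have h2 : z = b⁻¹ * x * b := by rw [← hzx']; group
        rw [h2, ← hyx']; group
      rw [this]; exact hz)
    rw [mem_bot, ← hyx', h1]
    group
  -- the prime
  obtain ⟨r, hr, hrd⟩ := Nat.exists_prime_and_dvd (n := q ^ 2 + 1) (by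
    have : 0 < q ^ 2 := by positivity
    omega)
  refine der_of_ti (p := 2) (T := ↥(Cfsg.Lie.Sz F (2 ^ (m + 1)))) (Q := q ^ 2) (Q1 := 2 ^ (2 * (2 * m + 1) - 1))
    (h := q - 1) (k := 2 * (2 * m + 1) - 1) (r := r) hTI ?_ ?_ rfl ?_ ?_ ?_ ?_ hr hrd ?_ M hM
    (not_sq_dvd Nat.prime_two hsq)
  · intro P
    have H := good hF
    have h1 : H.u 1 0 * H.u 1 0 = H.u 0 1 := by
      rw [H.u_mul]
      congr 1
      · rw [H.add_self]
      · simp
    refine fr_all (x := H.u 1 0) (k := 2) ?_ ?_ P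
    · rw [show 2 ^ 2 = 2 * 2 by norm_num, pow_mul, pow_two, pow_two, h1, H.u_mul, ← H.u_zero]
      congr 1
      · simp
      · rw [zero_mul, add_zero, H.add_self]
    · rw [pow_two, h1, ← H.u_zero]
      intro h2
      exact one_ne_zero (H.u_inj h2).2
  · rw [hq, ← pow_mul, ← pow_succ']
    congr 1
    omega
  · rw [hcard]; ring
  · intro h1
    have h2 : 2 ∣ q - (q - 1) := Nat.dvd_sub h2q h1
    rw [Nat.sub_sub_self (by omega)] at h2
    norm_num at h2
  · have h1 : 2 ^ (2 * m + 1) ≤ 2 ^ (2 * (2 * m + 1) - 1) := Nat.pow_le_pow_right (by norm_num) (by omega)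
    rw [← hq] at h1
    omega
  · intro a ha1 ha3 j hj
    have ha : a = 1 := by omega
    subst ha
    have h1 : 2 ^ (2 * m + 1) ≤ 2 ^ (2 * (2 * m + 1) - 1) := Nat.pow_le_pow_right (by norm_num) (by omega)
    rw [← hq] at h1
    rcases Nat.eq_zero_or_pos j with rfl | hj0
    · rw [zero_mul] at hj
      omega
    · have h3 : 1 + 1 * 2 ^ (2 * (2 * m + 1) - 1) ≤ j * (1 + 1 * 2 ^ (2 * (2 * m + 1) - 1)) :=
        Nat.le_mul_of_pos_left _ hj0
      omega
  · intro h1
    -- `q² + 1 = (q - 1) (q + 1) + 2`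
    have h2 : r ∣ (q - 1) * (q + 1) := h1.mul_right _
    have h3 : q ^ 2 + 1 = (q - 1) * (q + 1) + 2 := by
      obtain ⟨t, rfl⟩ : ∃ t, q = t + 1 := ⟨q - 1, by omega⟩
      rw [Nat.add_sub_cancel]; ring
    rw [h3] at hrd
    have h4 : r ∣ 2 := (Nat.dvd_add_right h2).1 hrd
    have h5 : r = 2 := (Nat.prime_dvd_prime_iff_eq hr Nat.prime_two).1 h4
    subst h5
    have h6 : 2 ∣ q - (q - 1) := Nat.dvd_sub h2q h1
    rw [Nat.sub_sub_self (by omega)] at h6
    norm_num at h6

end Cfsg.Agent.H394.SqSzRee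

private theorem dce_9c59e2d2c1b6 : _root_.True := by
  try have : _root_.True := by simp only [_root_.Cfsg.Agent.LieRecognition.SzMatrix.theta.congr_simp]
  exact _root_.True.intro
end

-- part: H452/FprRank
section
prune_inst 0x500030001000001800120000042010000000004b800031c006020e071860a0012e2142000d1200c08080000000080010000000000000000000000000000000024200933c0d00300000003003180c00000000000000000000000000041000000000000
set_option linter.all false
open scoped Cfsg.Agent.FastGrp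

-- part: H452/FprTorus
section
/-!
# Fixed point ratios: mixed radicals and split tori in groups of rank one
-/

set_option autoImplicit false
open Subgroup MulAction
open scoped Pointwise

namespace Cfsg.Agent.H452.FprTorus

open Cfsg.Agent.H409 Cfsg.Agent.H394.SqTI

variable {S : Type*} [Group S] [Finite S] {p : ℕ}

/-- The orbits of a radical containing fixed points. -/
theorem sum_orbit_le {Ω : Type*} [MulAction S Ω] [Finite Ω] {R : Subgroup S} {x : S}
    (hn : ∀ y ∈ R, x * y * x⁻¹ ∈ R) (hC : ∀ y ∈ R, x * y = y * x → y = 1) :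
    ∀ F : Finset Ω, (∀ ω ∈ F, x • ω = ω) → ∑ ω ∈ F, Nat.card (orbit R ω) ≤ Nat.card Ω := by
  classical
  intro F hF
  have : Fintype Ω := Fintype.ofFinite Ω
  have hdisj : (F : Set Ω).PairwiseDisjoint (fun ω => (orbit R ω).toFinset) := by
    intro ω hω ω' hω' hne
    change Disjoint (orbit R ω).toFinset (orbit R ω').toFinset
    rw [Set.disjoint_toFinset, Set.disjoint_left]
    intro z hz hz'
    apply hne
    have h1 : orbit R ω = orbit R ω' := by
      rw [← orbit_eq_iff.2 hz, ← orbit_eq_iff.2 hz']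
    have h2 : ω' ∈ orbit R ω := by
      rw [h1]
      exact mem_orbit_self _
    obtain ⟨⟨y, hy⟩, hyω⟩ := h2
    have hyω' : y • ω = ω' := hyω
    have h3 := fpf_unique hn hC (hF ω hω) hy (by rw [hyω']; exact hF ω' hω')
    rw [← hyω', h3]
  calc ∑ ω ∈ F, Nat.card (orbit R ω) = ∑ ω ∈ F, ((orbit R ω).toFinset).card := by
        apply Finset.sum_congr rfl
        intro ω _
        rw [Nat.card_eq_fintype_card, ← Set.toFinset_card]
    _ = (F.biUnion (fun ω => (orbit R ω).toFinset)).card := (Finset.card_biUnion hdisj).symm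
    _ ≤ Nat.card Ω := by
        rw [Nat.card_eq_fintype_card]
        exact Finset.card_le_univ _

/-- **Two radicals**, mixed form, for an arbitrary action. -/
theorem two_rad_mixed_aux [Fact p.Prime] {x : S} {R₁ R₂ : Subgroup S}
    (hx : ∃ k : ℕ, orderOf x = p ^ k)
    (hn₁ : ∀ y ∈ R₁, x * y * x⁻¹ ∈ R₁) (hn₂ : ∀ y ∈ R₂, x * y * x⁻¹ ∈ R₂)
    (hC₁ : ∀ y ∈ R₁, x * y = y * x → y = 1) (hC₂ : ∀ y ∈ R₂, x * y = y * x → y = 1)
    (hgen : R₁ ⊔ R₂ ⊔ zpowers x = ⊤)
    (h12 : ∀ K : Subgroup S, K ≠ ⊤ → x ∈ K → R₁ ≤ K → (R₂ ⊓ K).relIndex R₂ ≠ p + 1)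
    (h21 : ∀ K : Subgroup S, K ≠ ⊤ → x ∈ K → R₂ ≤ K → (R₁ ⊓ K).relIndex R₁ ≠ p + 1)
    {Ω : Type*} [MulAction S Ω] [Finite Ω] (hst : ∀ ω : Ω, stabilizer S ω ≠ ⊤) :
    (p + 1) * Nat.card (fixedBy Ω x) ≤ Nat.card Ω := by
  classical
  have hp : p.Prime := Fact.out
  have : Fintype Ω := Fintype.ofFinite _
  set F : Finset Ω := Finset.univ.filter fun ω => x • ω = ω with hF
  have hFc : Nat.card (fixedBy Ω x) = F.card := by
    have h1 : (fixedBy Ω x) = (F : Set Ω) := by
      ext ω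
      simp [hF]
    rw [Nat.card_coe_set_eq, h1, Set.ncard_coe_finset]
  have hFm : ∀ ω ∈ F, x • ω = ω := by
    intro ω hω
    rw [hF, Finset.mem_filter] at hω
    exact hω.2
  have h1 := sum_orbit_le hn₁ hC₁ F hFm
  have h2 := sum_orbit_le hn₂ hC₂ F hFm
  -- every fixed point
  have hmod : ∀ (R : Subgroup S), (∀ y ∈ R, x * y * x⁻¹ ∈ R) →
      (∀ y ∈ R, x * y = y * x → y = 1) → ∀ ω : Ω, x • ω = ω →
      p ∣ Nat.card (orbit R ω) - 1 := by
    intro R hn hC ω hω
    have h3 := orbit_mod (p := p) hx 0 hn (by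
      intro y hy h
      rw [pow_zero, pow_one] at h
      exact hC y hy h) hω
    rwa [zero_add, pow_one] at h3
  have hcases : ∀ (R : Subgroup S), (∀ y ∈ R, x * y * x⁻¹ ∈ R) →
      (∀ y ∈ R, x * y = y * x → y = 1) → ∀ ω : Ω, x • ω = ω →
      Nat.card (orbit R ω) = 1 ∨ Nat.card (orbit R ω) = p + 1 ∨ 2 * p + 1 ≤ Nat.card (orbit R ω) := by
    intro R hn hC ω hω
    obtain ⟨c, hc⟩ := hmod R hn hC ω hω
    have h0 : 0 < Nat.card (orbit R ω) := by
      have : Nonempty (orbit R ω) := ⟨⟨ω, mem_orbit_self _⟩⟩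
      exact Nat.card_pos
    rcases Nat.lt_or_ge c 1 with h | h
    · left
      have : c = 0 := by omega
      subst this
      omega
    rcases Nat.lt_or_ge c 2 with h' | h'
    · right; left
      have : c = 1 := by omega
      subst this
      omega
    · right; right
      have : p * 2 ≤ p * c := Nat.mul_le_mul_left _ h'
      omega
  have hone : ∀ (R : Subgroup S) (ω : Ω), Nat.card (orbit R ω) = 1 → R ≤ stabilizer S ω := by
    intro R ω h y hy
    rw [mem_stabilizer_iff]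
    have h3 := (Nat.card_eq_one_iff_unique.1 h).1
    have h4 : (⟨y • ω, ⟨⟨y, hy⟩, rfl⟩⟩ : orbit R ω) = ⟨ω, mem_orbit_self _⟩ := Subsingleton.elim _ _
    exact congrArg Subtype.val h4
  have hsum : ∀ ω ∈ F, 2 * (p + 1) ≤ Nat.card (orbit R₁ ω) + Nat.card (orbit R₂ ω) := by
    intro ω hω
    have hω' := hFm ω hω
    have c1 := hcases R₁ hn₁ hC₁ ω hω'
    have c2 := hcases R₂ hn₂ hC₂ ω hω'
    have hp1 := hp.one_lt
    have h11 : ¬ (Nat.card (orbit R₁ ω) = 1 ∧ Nat.card (orbit R₂ ω) = 1) := by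
      rintro ⟨h3, h4⟩
      apply hst ω
      rw [eq_top_iff, ← hgen]
      refine sup_le (sup_le (hone _ _ h3) (hone _ _ h4)) ?_
      rw [zpowers_le]
      exact hω'
    have h1p : ¬ (Nat.card (orbit R₁ ω) = 1 ∧ Nat.card (orbit R₂ ω) = p + 1) := by
      rintro ⟨h3, h4⟩
      rw [card_orbit_eq_relIndex] at h4
      exact h12 _ (hst ω) hω' (hone _ _ h3) h4
    have hp1' : ¬ (Nat.card (orbit R₁ ω) = p + 1 ∧ Nat.card (orbit R₂ ω) = 1) := by
      rintro ⟨h3, h4⟩
      rw [card_orbit_eq_relIndex] at h3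
      exact h21 _ (hst ω) hω' (hone _ _ h4) h3
    rcases c1 with c1 | c1 | c1 <;> rcases c2 with c2 | c2 | c2
    · exact absurd ⟨c1, c2⟩ h11
    · exact absurd ⟨c1, c2⟩ h1p
    · omega
    · exact absurd ⟨c1, c2⟩ hp1'
    · omega
    · omega
    · omega
    · omega
    · omega
  have h3 : F.card * (2 * (p + 1)) ≤ 2 * Nat.card Ω := by
    calc F.card * (2 * (p + 1)) = ∑ _ω ∈ F, 2 * (p + 1) := by
          rw [Finset.sum_const, smul_eq_mul]
      _ ≤ ∑ ω ∈ F, (Nat.card (orbit R₁ ω) + Nat.card (orbit R₂ ω)) := Finset.sum_le_sum hsum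
      _ = ∑ ω ∈ F, Nat.card (orbit R₁ ω) + ∑ ω ∈ F, Nat.card (orbit R₂ ω) :=
          Finset.sum_add_distrib
      _ ≤ 2 * Nat.card Ω := by linarith
  rw [hFc]
  nlinarith

theorem stabilizer_ne_top {H : Subgroup S} (hH : H ≠ ⊤) (ω : S ⧸ H) : stabilizer S ω ≠ ⊤ := by
  intro h
  have h3 := index_stabilizer_of_transitive S ω
  rw [h, Subgroup.index_top] at h3
  have h4 := Subgroup.one_lt_index_of_ne_top hH
  change 1 < Nat.card (S ⧸ H) at h4
  omega

/-- **Two radicals**, mixed form. -/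
theorem row_two_rad_mixed [Fact p.Prime] {x : S} {R₁ R₂ : Subgroup S}
    (hx : ∃ k : ℕ, orderOf x = p ^ k)
    (hn₁ : ∀ y ∈ R₁, x * y * x⁻¹ ∈ R₁) (hn₂ : ∀ y ∈ R₂, x * y * x⁻¹ ∈ R₂)
    (hC₁ : ∀ y ∈ R₁, x * y = y * x → y = 1) (hC₂ : ∀ y ∈ R₂, x * y = y * x → y = 1)
    (hgen : R₁ ⊔ R₂ ⊔ zpowers x = ⊤)
    (h12 : ∀ K : Subgroup S, K ≠ ⊤ → x ∈ K → R₁ ≤ K → (R₂ ⊓ K).relIndex R₂ ≠ p + 1)
    (h21 : ∀ K : Subgroup S, K ≠ ⊤ → x ∈ K → R₂ ≤ K → (R₁ ⊓ K).relIndex R₁ ≠ p + 1) :
    FprRow (p + 1) 1 p S := by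
  intro H hH
  refine ⟨x, hx, ?_⟩
  rw [one_mul]
  exact two_rad_mixed_aux hx hn₁ hn₂ hC₁ hC₂ hgen h12 h21 (stabilizer_ne_top hH)

/-- The group generated by the Sylow subgroups. -/
theorem eq_top_of_sylow [IsSimpleGroup S] {r : ℕ} [Fact r.Prime] {K : Subgroup S}
    {P : Sylow r S} (hP : (P : Subgroup S) ≠ ⊥) (h : ∀ Q : Sylow r S, (Q : Subgroup S) ≤ K) :
    K = ⊤ := by
  have hn : (⨆ Q : Sylow r S, (Q : Subgroup S)).Normal := by
    constructor
    intro n hn g
    have h1 : (⨆ Q : Sylow r S, (Q : Subgroup S)) ≤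
        (⨆ Q : Sylow r S, (Q : Subgroup S)).comap (MulAut.conj g).toMonoidHom := by
      apply iSup_le
      intro Q s hs
      have h2 : ((g • Q : Sylow r S) : Subgroup S) ≤ ⨆ Q : Sylow r S, (Q : Subgroup S) :=
        le_iSup (fun Q : Sylow r S => (Q : Subgroup S)) (g • Q)
      apply h2
      rw [Sylow.smul_def]
      exact ⟨s, hs, rfl⟩
    exact h1 hn
  rcases hn.eq_bot_or_eq_top with h1 | h1
  · exfalso
    apply hP
    rw [eq_bot_iff, ← h1]
    exact le_iSup (fun Q : Sylow r S => (Q : Subgroup S)) P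
  · rw [eq_top_iff, ← h1]
    exact iSup_le h

/-- In a rank one situation a Sylow subgroup and an element of another one generate `S`. -/
theorem eq_top_of_ti [IsSimpleGroup S] {r : ℕ} [Fact r.Prime]
    (hTI : ∀ P Q : Sylow r S, P ≠ Q → (P : Subgroup S) ⊓ Q = ⊥) {Q : ℕ}
    (hQ : ∀ P : Sylow r S, Nat.card P = Q) (hQ1 : 1 < Q) (hcount : Nat.card (Sylow r S) = 1 + Q)
    {P₁ P₂ : Sylow r S} (hne : P₁ ≠ P₂) {K : Subgroup S} (h1 : (P₁ : Subgroup S) ≤ K)
    (h2 : (P₂ : Subgroup S) ⊓ K ≠ ⊥) : K = ⊤ := by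
  classical
  have hbot : (P₁ : Subgroup S) ≠ ⊥ := by
    intro h
    have h3 := hQ P₁
    change Nat.card (P₁ : Subgroup S) = Q at h3
    rw [h, Subgroup.card_bot] at h3
    omega
  have hd := card_orbit_sub hTI P₁ K
  have hKP : K ⊓ (P₁ : Subgroup S) = P₁ := inf_eq_right.2 h1
  rw [hKP] at hd
  have hQ1' : Nat.card (P₁ : Subgroup S) = Q := hQ P₁
  rw [hQ1'] at hd
  -- the orbit is not trivial
  obtain ⟨u, hu, hu1⟩ : ∃ u ∈ (P₂ : Subgroup S) ⊓ K, u ≠ 1 := by
    by_contra hcon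
    push Not at hcon
    apply h2
    rw [eq_bot_iff]
    intro u hu
    exact mem_bot.2 (hcon u hu)
  have hmove : (⟨u, hu.2⟩ : K) • P₁ ≠ P₁ := by
    intro h
    have h3 : u • P₁ = P₁ := h
    rw [Sylow.smul_eq_iff_mem_normalizer] at h3
    have h4 := mem_of_mem_normalizer P₁ (S := (P₂ : Subgroup S)) P₂.isPGroup' hu.1 h3
    have h5 : u ∈ (P₁ : Subgroup S) ⊓ P₂ := ⟨h4, hu.1⟩
    rw [hTI P₁ P₂ hne, mem_bot] at h5
    exact hu1 h5
  have hcard : 1 < Nat.card (orbit K P₁) := by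
    rw [Finite.one_lt_card_iff_nontrivial]
    exact ⟨⟨⟨(⟨u, hu.2⟩ : K) • P₁, ⟨_, rfl⟩⟩, ⟨P₁, mem_orbit_self _⟩, fun h =>
      hmove (congrArg Subtype.val h)⟩⟩
  have hle : Nat.card (orbit K P₁) ≤ 1 + Q := by
    rw [← hcount]
    exact Nat.card_le_card_of_injective _ Subtype.val_injective
  have heq : Nat.card (orbit K P₁) = 1 + Q := by
    have h3 := Nat.le_of_dvd (by omega) hd
    omega
  have huniv : orbit K P₁ = Set.univ := by
    apply Set.eq_of_subset_of_ncard_le (Set.subset_univ _)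
    · rw [Set.ncard_univ, hcount, ← heq, Nat.card_coe_set_eq]
  apply eq_top_of_sylow hbot
  intro R
  have h3 : R ∈ orbit K P₁ := by rw [huniv]; trivial
  obtain ⟨⟨k, hk⟩, hkR⟩ := h3
  have h4 : k • P₁ = R := hkR
  rw [← h4, Sylow.smul_def]
  rintro _ ⟨s, hs, rfl⟩
  exact K.mul_mem (K.mul_mem hk (h1 hs)) (K.inv_mem hk)

/-- **Split tori** in groups of rank one. -/
theorem row_ti_torus [IsSimpleGroup S] [Fact p.Prime] {r : ℕ} [Fact r.Prime]
    (hTI : ∀ P Q : Sylow r S, P ≠ Q → (P : Subgroup S) ⊓ Q = ⊥) {Q : ℕ}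
    (hQ : ∀ P : Sylow r S, Nat.card P = Q) (hQ1 : 1 < Q) (hcount : Nat.card (Sylow r S) = 1 + Q)
    (hQp : Q ≠ p + 1) {x : S} (hx : ∃ k : ℕ, orderOf x = p ^ k)
    {P₁ P₂ : Sylow r S} (hne : P₁ ≠ P₂)
    (h1 : x ∈ normalizer ((P₁ : Subgroup S) : Set S))
    (h2 : x ∈ normalizer ((P₂ : Subgroup S) : Set S))
    (hC₁ : ∀ y ∈ (P₁ : Subgroup S), x * y = y * x → y = 1)
    (hC₂ : ∀ y ∈ (P₂ : Subgroup S), x * y = y * x → y = 1) : FprRow (p + 1) 1 p S := by
  have hbot : ∀ P : Sylow r S, (P : Subgroup S) ≠ ⊥ := by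
    intro P h
    have h3 := hQ P
    change Nat.card (P : Subgroup S) = Q at h3
    rw [h, Subgroup.card_bot] at h3
    omega
  have key : ∀ {P P' : Sylow r S}, P ≠ P' → ∀ K : Subgroup S, K ≠ ⊤ → x ∈ K →
      (P : Subgroup S) ≤ K → ((P' : Subgroup S) ⊓ K).relIndex P' ≠ p + 1 := by
    intro P P' hPP K hK _ hPK
    have h3 : (P' : Subgroup S) ⊓ K = ⊥ := by
      by_contra h4
      exact hK (eq_top_of_ti hTI hQ hQ1 hcount hPP hPK h4)
    rw [h3, Subgroup.relIndex_bot_left]
    change Nat.card P' ≠ p + 1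
    rw [hQ P']
    exact hQp
  refine row_two_rad_mixed (R₁ := P₁) (R₂ := P₂) hx ?_ ?_ hC₁ hC₂ ?_ (key hne) (key hne.symm)
  · intro y hy
    exact (mem_normalizer_iff.1 h1 y).1 hy
  · intro y hy
    exact (mem_normalizer_iff.1 h2 y).1 hy
  · apply eq_top_of_ti hTI hQ hQ1 hcount hne
    · exact le_sup_left.trans le_sup_left
    · have h3 : (P₂ : Subgroup S) ⊓ (((P₁ : Subgroup S) ⊔ P₂) ⊔ zpowers x) = P₂ :=
        inf_eq_left.2 (le_sup_right.trans le_sup_left)
      rw [h3]
      exact hbot P₂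

/-- **Split tori** in groups of rank one: it suffices that `p`-elements normalising a Sylow
`r`-subgroup act on it without fixed points. -/
theorem row_ti_torus' [IsSimpleGroup S] [Fact p.Prime] {r : ℕ} [Fact r.Prime] (hrp : p ≠ r)
    (hTI : ∀ P Q : Sylow r S, P ≠ Q → (P : Subgroup S) ⊓ Q = ⊥) {Q k : ℕ} (hQk : Q = r ^ k)
    (hQ : ∀ P : Sylow r S, Nat.card P = Q) (hQ1 : 1 < Q) (hcount : Nat.card (Sylow r S) = 1 + Q)
    (hQp : Q ≠ p + 1) {x : S} (hx : ∃ k : ℕ, orderOf x = p ^ k)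
    {P₁ : Sylow r S}
    (h1 : x ∈ normalizer ((P₁ : Subgroup S) : Set S))
    (hC : ∀ P : Sylow r S, x ∈ normalizer ((P : Subgroup S) : Set S) →
      ∀ y ∈ (P : Subgroup S), x * y = y * x → y = 1) : FprRow (p + 1) 1 p S := by
  classical
  have hp : p.Prime := Fact.out
  have hr : r.Prime := Fact.out
  obtain ⟨j, hj⟩ := hx
  have hP : IsPGroup p (zpowers x) := IsPGroup.of_card (n := j) (by rw [Nat.card_zpowers, hj])
  have hmod := hP.card_modEq_card_fixedPoints (α := Sylow r S)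
  have hfix : ∀ P : Sylow r S, P ∈ fixedPoints (zpowers x) (Sylow r S) →
      x ∈ normalizer ((P : Subgroup S) : Set S) := by
    intro P hPf
    exact Sylow.smul_eq_iff_mem_normalizer.1 (hPf ⟨x, mem_zpowers x⟩)
  obtain ⟨P₂, hP₂, hne⟩ : ∃ P₂ ∈ fixedPoints (zpowers x) (Sylow r S), P₂ ≠ P₁ := by
    by_contra hcon
    push Not at hcon
    have h2 : fixedPoints (zpowers x) (Sylow r S) ⊆ {P₁} := fun P hPf => hcon P hPf
    have h3 : P₁ ∈ fixedPoints (zpowers x) (Sylow r S) := by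
      rintro ⟨_, i, rfl⟩
      have h4 : x ^ i ∈ normalizer ((P₁ : Subgroup S) : Set S) := Subgroup.zpow_mem _ h1 i
      exact Sylow.smul_eq_iff_mem_normalizer.2 h4
    have h4 : fixedPoints (zpowers x) (Sylow r S) = {P₁} :=
      Set.Subset.antisymm h2 (Set.singleton_subset_iff.2 h3)
    rw [h4, hcount, Nat.card_coe_set_eq, Set.ncard_singleton] at hmod
    have h5 : p ∣ Q := by
      have h6 := (Nat.modEq_iff_dvd' (show 1 ≤ 1 + Q by omega)).1 hmod.symm
      rwa [Nat.add_sub_cancel_left] at h6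
    rw [hQk] at h5
    exact hrp ((Nat.prime_dvd_prime_iff_eq hp hr).1 (hp.dvd_of_dvd_pow h5))
  exact row_ti_torus hTI hQ hQ1 hcount hQp ⟨j, hj⟩ hne.symm h1 (hfix P₂ hP₂) (hC P₁ h1)
    (hC P₂ (hfix P₂ hP₂))

end Cfsg.Agent.H452.FprTorus
end

-- part: H452/FprRank
section
/-!
# Fixed point ratios in groups of rank one: split tori with cyclic Sylow subgroups
-/

set_option autoImplicit false
open Subgroup MulAction
open scoped Pointwise

namespace Cfsg.Agent.H452.FprRank

open Cfsg.Agent.H409 Cfsg.Agent.H394.SqTI Cfsg.Agent.H452.FprCyc Cfsg.Agent.H452.FprTorus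

variable {S : Type*} [Group S] [Finite S] {p : ℕ}

/-- If the Sylow `p`-subgroups are cyclic, the subgroups of order `p` are conjugate. -/
theorem exists_conj_zpowers [Fact p.Prime] (hc : ∀ P : Sylow p S, IsCyclic P) {x y : S}
    (hx : orderOf x = p) (hy : orderOf y = p) :
    ∃ g : S, (zpowers x).map (MulAut.conj g).toMonoidHom = zpowers y := by
  have hp : p.Prime := Fact.out
  have hpx : IsPGroup p (zpowers x) := IsPGroup.of_card (n := 1) (by rw [Nat.card_zpowers, hx, pow_one])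
  have hpy : IsPGroup p (zpowers y) := IsPGroup.of_card (n := 1) (by rw [Nat.card_zpowers, hy, pow_one])
  obtain ⟨Q1, hQ1⟩ := hpx.exists_le_sylow
  obtain ⟨Q2, hQ2⟩ := hpy.exists_le_sylow
  obtain ⟨g, hg⟩ := exists_smul_eq S Q1 Q2
  refine ⟨g, ?_⟩
  have hxQ : g * x * g⁻¹ ∈ (Q2 : Subgroup S) := by
    rw [← hg, Sylow.smul_def]
    exact ⟨x, hQ1 (mem_zpowers _), rfl⟩
  have hyQ : y ∈ (Q2 : Subgroup S) := hQ2 (mem_zpowers _)
  have ho : orderOf (g * x * g⁻¹) = p := by
    rw [← hx]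
    exact orderOf_injective (MulAut.conj g).toMonoidHom (MulAut.conj g).injective x
  have := hc Q2
  have h3 := zpowers_eq_of_cyclic (Q := Q2) hp (x := ⟨_, hxQ⟩) (y := ⟨_, hyQ⟩)
    (by rw [Subgroup.orderOf_mk, ho]) (by rw [Subgroup.orderOf_mk, hy])
  have h4 := congrArg (fun K : Subgroup Q2 => K.map (Q2 : Subgroup S).subtype) h3
  simp only [MonoidHom.map_zpowers] at h4
  rw [MonoidHom.map_zpowers]
  exact h4

theorem card_normalizer_eq [Fact p.Prime] (hc : ∀ P : Sylow p S, IsCyclic P) {x y : S}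
    (hx : orderOf x = p) (hy : orderOf y = p) :
    Nat.card (normalizer ((zpowers x : Subgroup S) : Set S)) =
      Nat.card (normalizer ((zpowers y : Subgroup S) : Set S)) := by
  obtain ⟨g, hg⟩ := exists_conj_zpowers hc hx hy
  have h1 := map_equiv_normalizer_eq (zpowers x) (MulAut.conj g)
  rw [hg] at h1
  rw [← h1]
  exact Nat.card_congr ((normalizer ((zpowers x : Subgroup S) : Set S)).equivMapOfInjective _
    (MulAut.conj g).injective).toEquiv

/-- The order of the normaliser of a Sylow subgroup. -/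
theorem card_norm_sylow {r : ℕ} [Fact r.Prime] {Q h : ℕ}
    (hcount : Nat.card (Sylow r S) = 1 + Q) (hord : Nat.card S = Q * ((Q + 1) * h))
    (P : Sylow r S) : Nat.card (normalizer ((P : Subgroup S) : Set S)) = Q * h := by
  have h1 : (normalizer ((P : Subgroup S) : Set S)).index = 1 + Q := by
    rw [← hcount]
    exact (Sylow.card_eq_index_normalizer P).symm
  have h2 := Subgroup.card_mul_index (normalizer ((P : Subgroup S) : Set S))
  rw [h1, hord] at h2
  have h3 : 0 < 1 + Q := by omega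
  apply Nat.eq_of_mul_eq_mul_right h3
  rw [h2]
  ring

/-- **Split tori** in groups of rank one, cyclic Sylow `p`-subgroups. -/
theorem row_ti_cyclic [IsSimpleGroup S] [Fact p.Prime] {r : ℕ} [Fact r.Prime] (hrp : p ≠ r)
    (hTI : ∀ P Q : Sylow r S, P ≠ Q → (P : Subgroup S) ⊓ Q = ⊥) {Q k : ℕ} (hQk : Q = r ^ k)
    (hQ : ∀ P : Sylow r S, Nat.card P = Q) (hQ1 : 1 < Q) (hcount : Nat.card (Sylow r S) = 1 + Q)
    (hQp : Q ≠ p + 1) (hc : ∀ P : Sylow p S, IsCyclic P) {x : S} (hx : orderOf x = p)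
    (hr : ¬ r ∣ Nat.card (normalizer ((zpowers x : Subgroup S) : Set S)))
    {P : Sylow r S} (hP : p ∣ Nat.card (normalizer ((P : Subgroup S) : Set S))) :
    FprRow (p + 1) 1 p S := by
  obtain ⟨y, hy⟩ := exists_prime_orderOf_dvd_card' (G := normalizer ((P : Subgroup S) : Set S)) p hP
  have hyo : orderOf (y : S) = p := by rw [Subgroup.orderOf_coe, hy]
  rw [card_normalizer_eq hc hx hyo] at hr
  refine row_ti_torus' hrp hTI hQk hQ hQ1 hcount hQp (x := (y : S)) ⟨1, by rw [hyo, pow_one]⟩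
    (P₁ := P) y.2 ?_
  intro P' _ z hz hyz
  by_contra hz1
  apply hr
  have h1 : z ∈ normalizer ((zpowers (y : S) : Subgroup S) : Set S) := by
    have h2 : z ∈ Subgroup.centralizer ((zpowers (y : S) : Subgroup S) : Set S) := by
      rw [mem_centralizer_iff]
      rintro _ ⟨i, rfl⟩
      have h3 : Commute (y : S) z := hyz
      exact (h3.zpow_left i).eq
    exact centralizer_le_normalizer _ h2
  have h4 : r ∣ orderOf z := by
    obtain ⟨j, hj⟩ := P'.isPGroup' ⟨z, hz⟩
    have h5 : z ^ r ^ j = 1 := congrArg Subtype.val hj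
    obtain ⟨i, -, hi⟩ := (Nat.dvd_prime_pow (Fact.out : r.Prime)).1 (orderOf_dvd_of_pow_eq_one h5)
    rw [hi]
    apply dvd_pow_self
    rintro rfl
    rw [pow_zero, orderOf_eq_one_iff] at hi
    exact hz1 hi
  have h5 := orderOf_dvd_natCard (⟨z, h1⟩ : normalizer ((zpowers (y : S) : Subgroup S) : Set S))
  rw [Subgroup.orderOf_mk] at h5
  exact h4.trans h5

end Cfsg.Agent.H452.FprRank
end
end
end
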