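import Cfsg.Agent.SmallSimple.Simple168
import Cfsg.Agent.H325.ConCard
import Cfsg.Agent.BpSpor.HeThree
import Cfsg.Agent.H492.IMHe
import Cfsg.Agent.H394.PBTools_m3
import Cfsg.Agent.H547.SelfCent.He
import Cfsg.Agent.FastGrp
import Cfsg.Agent.Prune
set_option linter.all false
prune_inst 0x7f00000000000000000000000000000000000000000000000000000000000000000000000000000000000000000000000000000000000000000000000000000000000000000000000000000000000000003fffffffffffffffffffffffffffbeffbdffffffff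
open scoped Cfsg.Agent.FastGrp

-- part: H394/PB168
section
/-!
# A perfect group of order 168 is simple (helper394)
-/

set_option autoImplicit false

namespace Cfsg.Agent.H394.PB168

open Subgroup

theorem not_perfect_of_lt {Q : Type*} [Group Q] [Finite Q] [Nontrivial Q] (h : Nat.card Q < 60) :
    commutator Q ≠ ⊤ := by
  have := Cfsg.Agent.H325.Con.solvable_of_card_lt h
  exact (Group.IsSolvable.commutator_lt_top_of_nontrivial Q).ne

theorem perfect_quot {Y : Type*} [Group Y] (hperf : commutator Y = ⊤) (N : Subgroup Y) [N.Normal] :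
    commutator (Y ⧸ N) = ⊤ := by
  have h4 : (commutator Y).map (QuotientGroup.mk' N) = commutator (Y ⧸ N) := by
    rw [commutator_def, Subgroup.map_commutator, commutator_def, ← MonoidHom.range_eq_map,
      MonoidHom.range_eq_top.2 (QuotientGroup.mk'_surjective N)]
  rw [← h4, hperf, ← MonoidHom.range_eq_map, MonoidHom.range_eq_top.2 (QuotientGroup.mk'_surjective N)]

theorem not_perfect_84 {Q : Type*} [Group Q] [Finite Q] (h : Nat.card Q = 84) :
    commutator Q ≠ ⊤ := by
  intro hp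
  have h7 : Fact (Nat.Prime 7) := ⟨by norm_num⟩
  obtain ⟨P⟩ : Nonempty (Sylow 7 Q) := inferInstance
  have hP : Nat.card (P : Subgroup Q) = 7 := by
    have h1 := P.card_eq_multiplicity
    have h2 : Nat.factorization 84 7 = 1 := by
      have : (84 : ℕ) = 7 ^ 1 * 12 := by norm_num
      rw [this, Nat.factorization_mul (by norm_num) (by norm_num), Finsupp.add_apply,
        (by norm_num : Nat.Prime 7).factorization_pow, Finsupp.single_eq_same,
        Nat.factorization_eq_zero_of_not_dvd (by norm_num : ¬ 7 ∣ 12)]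
    rw [h, h2, pow_one] at h1
    exact h1
  have hi : (P : Subgroup Q).index = 12 := by
    have h1 := (P : Subgroup Q).card_mul_index
    rw [hP, h] at h1
    omega
  have h1 := P.card_dvd_index
  rw [hi] at h1
  have h4 : Nat.card (Sylow 7 Q) % 7 = 1 := card_sylow_modEq_one 7 Q
  have h3 : Nat.card (Sylow 7 Q) ≤ 12 := Nat.le_of_dvd (by norm_num) h1
  have h5 : Nat.card (Sylow 7 Q) = 1 := by
    generalize Nat.card (Sylow 7 Q) = n at *
    interval_cases n <;> omega
  have hsub : Subsingleton (Sylow 7 Q) := (Nat.card_eq_one_iff_unique.1 h5).1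
  have hN : (P : Subgroup Q).Normal := Sylow.normal_of_subsingleton P
  have hc : Nat.card (Q ⧸ (P : Subgroup Q)) = 12 := hi
  have hnt : Nontrivial (Q ⧸ (P : Subgroup Q)) := by
    rw [← Finite.one_lt_card_iff_nontrivial, hc]; norm_num
  exact not_perfect_of_lt (by rw [hc]; norm_num) (perfect_quot hp (P : Subgroup Q))

theorem simple {Y : Type*} [Group Y] [Finite Y] (hperf : commutator Y = ⊤) (hY : Nat.card Y = 168) :
    IsSimpleGroup Y := by
  have hnt : Nontrivial Y := by
    rw [← Finite.one_lt_card_iff_nontrivial, hY]; norm_num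
  refine ⟨fun N hN => ?_⟩
  by_contra hcon
  push Not at hcon
  obtain ⟨h1, h2⟩ := hcon
  have h3 : Nat.card N * Nat.card (Y ⧸ N) = 168 := by
    rw [← hY]; exact N.card_mul_index
  have h4 : Nat.card N ≠ 1 := fun h => h1 (Subgroup.card_eq_one.1 h)
  have h5 : Nat.card (Y ⧸ N) ≠ 1 := fun h => h2 (Subgroup.index_eq_one.1 h)
  have h6 : 0 < Nat.card N := Nat.card_pos
  have h7 : 0 < Nat.card (Y ⧸ N) := Nat.card_pos
  have hnt2 : Nontrivial (Y ⧸ N) := by
    rw [← Finite.one_lt_card_iff_nontrivial]; omega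
  by_cases h8 : Nat.card (Y ⧸ N) < 60
  · exact not_perfect_of_lt h8 (perfect_quot hperf N)
  · refine not_perfect_84 ?_ (perfect_quot hperf N)
    have h9 : Nat.card N ≤ 2 := by
      by_contra h10
      have : 3 * 60 ≤ Nat.card N * Nat.card (Y ⧸ N) := Nat.mul_le_mul (by omega) (by omega)
      omega
    have h10 : Nat.card N = 2 := by omega
    rw [h10] at h3
    omega

/-- centralizers of elements of order 3 and 7 -/
theorem card_three {Y : Type*} [Group Y] [Finite Y] (hperf : commutator Y = ⊤) (hY : Nat.card Y = 168) {y : Y}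
    (hy : orderOf y = 3) : Nat.card ↥(centralizer ({y} : Set Y)) = 3 := by
  have := simple hperf hY
  exact Cfsg.Agent.SmallSimple.Simple168.card_centralizer_three hY y hy

theorem card_seven {Y : Type*} [Group Y] [Finite Y] (hperf : commutator Y = ⊤) (hY : Nat.card Y = 168) {y : Y}
    (hy : orderOf y = 7) : Nat.card ↥(centralizer ({y} : Set Y)) = 7 := by
  have := simple hperf hY
  exact Cfsg.Agent.SmallSimple.Simple168.card_centralizer_seven hY y hy

end Cfsg.Agent.H394.PB168
end

-- part: H394/PBHe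
section
/-!
# S4826: the row of the Held group (helper394)
-/

set_option autoImplicit false
set_option maxRecDepth 100000

namespace Cfsg.Agent.H394.PBHe

open Subgroup Cfsg Cfsg.Agent.KFacts.TwoSix.SheetDef Cfsg.Agent.BpSpor
open Cfsg.Spor.He Cfsg.Agent.SporadicB.HePerm Cfsg.Agent.FixBN.HeStab
open Cfsg.Agent.KFacts.He.Lv Cfsg.Agent.KFacts.He.TwoACent Cfsg.Agent.KFacts.He.TwoAPlane
open Cfsg.Agent.ONType.Psl (PSL3)

universe u

section Sheet

variable {G : Type u} [Group G] [Finite G] {z : G} {P R E E' : Subgroup G}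

theorem order_mk {Y : Type*} [Group Y] [Finite Y] (N : Subgroup Y) [N.Normal] {n : ℕ} (hN : Nat.card N = 2 ^ n) {x : Y}
    {p : ℕ} [hp : Fact p.Prime] (hp2 : p ≠ 2) (hx : orderOf x = p) : orderOf (QuotientGroup.mk' N x) = p := by
  refine orderOf_eq_prime ?_ ?_
  · rw [← map_pow, ← hx, pow_orderOf_eq_one, map_one]
  · intro h
    rw [← MonoidHom.mem_ker, QuotientGroup.ker_mk'] at h
    exact Cen.not_mem_of_card hp.out hp2 hN hx h

/-- `C(z) ∩ C(x)` for `x` of odd prime order in `C(z) = 2^{1+6}:L3(2)` -/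
theorem card_sheet (S : Sheet z P R E E') (hP : P = centralizer ({z} : Set G)) {p : ℕ} [hp : Fact p.Prime]
    (hp2 : p ≠ 2) {x : G} (hx : orderOf x = p) (hxz : x * z = z * x) {a b c : ℕ}
    (ha : ∀ i < 4, 2 ^ 4 ≡ 2 ^ i [MOD p] → 2 ^ i ∣ a) (hb : ∀ i < 3, 2 ^ 3 ≡ 2 ^ i [MOD p] → 2 ^ i ∣ b)
    (hc : ∀ {Y : Type u} [Group Y] [Finite Y], commutator Y = ⊤ → Nat.card Y = 168 → ∀ y : Y, orderOf y = p →
      Nat.card ↥(centralizer ({y} : Set Y)) ∣ c) :
    Nat.card ↥(centralizer ({z} : Set G) ⊓ centralizer ({x} : Set G)) ∣ a * (b * c) := by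
  have hxP : x ∈ P := by rw [hP]; exact mem_centralizer_singleton_iff.2 hxz
  rw [← hP]
  have hEP : E ≤ P := S.h1.ER.trans S.RP
  set E1 : Subgroup ↥P := E.subgroupOf P with hE1
  set R1 : Subgroup ↥P := R.subgroupOf P with hR1
  have hE1n : E1.Normal := ⟨fun e he p => mem_subgroupOf.2 (S.h1.norE p p.2 e he)⟩
  have hR1n : R1.Normal := ⟨fun e he p => mem_subgroupOf.2 (S.norR p p.2 e he)⟩
  have cE1 : Nat.card E1 = 16 := by
    rw [Nat.card_congr (subgroupOfEquivOfLe hEP).toEquiv, S.h1.cardE]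
  have cR1 : Nat.card R1 = 128 := by
    rw [Nat.card_congr (subgroupOfEquivOfLe S.RP).toEquiv, S.cardR]
  -- `E`
  have k1 : Nat.card ↥(E ⊓ centralizer ({x} : Set G)) ∣ a := by
    obtain ⟨i, hi, hie, hm⟩ := Cen.exists_fix (N := E) (n := 4) (by rw [S.h1.cardE]; norm_num) hx
      (fun y hy => S.h1.norE x hxP y hy) (fun h => by
        have h1 := S.h1.cE x hxP h
        exact Cen.not_mem_of_card hp.out hp2 (n := 4) (by rw [S.h1.cardE]; norm_num) hx h1)
    rw [hie]
    exact ha i hi hm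
  let q1 : ↥P →* ↥P ⧸ E1 := QuotientGroup.mk' E1
  let x1 : ↥P := ⟨x, hxP⟩
  have hx1 : orderOf x1 = p := by rw [← Subgroup.orderOf_coe]; exact hx
  have k2 := Cen.card_inf_dvd (C := P) (N := E) q1 (fun c hc => by
    have h1 : c ∈ q1.ker := hc
    rw [QuotientGroup.ker_mk'] at h1
    exact mem_subgroupOf.1 h1) x1
  -- `R / E`
  set R2 : Subgroup (↥P ⧸ E1) := R1.map q1 with hR2
  have hR2n : R2.Normal := hR1n.map q1 (QuotientGroup.mk'_surjective _)
  have hER1 : E1 ≤ R1 := fun e he => mem_subgroupOf.2 (S.h1.ER (mem_subgroupOf.1 he))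
  have cR2 : Nat.card R2 = 8 := by
    have h1 : Nat.card E1 * Nat.card R2 = Nat.card R1 := by
      have h4 : Nat.card R2 = E1.relIndex R1 := by
        have h5 := Subgroup.relIndex_ker (f := q1) (K := R1)
        rw [QuotientGroup.ker_mk'] at h5
        exact h5.symm
      rw [h4]
      have h5 := (E1.subgroupOf R1).card_mul_index
      rwa [Nat.card_congr (subgroupOfEquivOfLe hER1).toEquiv] at h5
    rw [cE1, cR1] at h1
    omega
  have hx2 : orderOf (q1 x1) = p := order_mk E1 (n := 4) (by rw [cE1]; norm_num) hp2 hx1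
  have k3 : Nat.card ↥(R2 ⊓ centralizer ({q1 x1} : Set (↥P ⧸ E1))) ∣ b := by
    obtain ⟨i, hi, hie, hm⟩ := Cen.exists_fix (N := R2) (n := 3) (by rw [cR2]; norm_num) hx2
      (fun y hy => hR2n.conj_mem y hy _) (fun h => by
        have h1 : x ∈ R := by
          refine S.h1.tR x hxP fun r hr => ?_
          have h4 : q1 (x1 * ⟨r, S.RP hr⟩ * x1⁻¹ * (⟨r, S.RP hr⟩ : ↥P)⁻¹) = 1 := by
            have h5 := h (q1 ⟨r, S.RP hr⟩) ⟨_, hr, rfl⟩
            rw [map_mul, map_mul, map_mul, map_inv, map_inv, h5]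
            group
          have h5 : x1 * ⟨r, S.RP hr⟩ * x1⁻¹ * (⟨r, S.RP hr⟩ : ↥P)⁻¹ ∈ q1.ker := h4
          rw [QuotientGroup.ker_mk'] at h5
          exact mem_subgroupOf.1 h5
        exact Cen.not_mem_of_card hp.out hp2 (n := 7) (by rw [S.cardR]; norm_num) hx h1)
    rw [hie]
    exact hb i hi hm
  -- `P / R`
  let q2 : (↥P ⧸ E1) →* (↥P ⧸ E1) ⧸ R2 := QuotientGroup.mk' R2
  have cY : Nat.card ((↥P ⧸ E1) ⧸ R2) = 168 := by
    have h1 : Nat.card (↥P ⧸ E1) * Nat.card E1 = Nat.card ↥P := (Subgroup.card_eq_card_quotient_mul_card_subgroup E1).symm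
    have h4 : Nat.card ((↥P ⧸ E1) ⧸ R2) * Nat.card R2 = Nat.card (↥P ⧸ E1) :=
      (Subgroup.card_eq_card_quotient_mul_card_subgroup R2).symm
    rw [S.cardP, cE1] at h1
    rw [cR2] at h4
    omega
  have hperf : commutator ((↥P ⧸ E1) ⧸ R2) = ⊤ := by
    have h1 : commutator ↥P = ⊤ := by
      have h4 : (commutator ↥P).map P.subtype = ⁅P, P⁆ := by
        rw [commutator_def, Subgroup.map_commutator]
        rw [← MonoidHom.range_eq_map, Subgroup.range_subtype]
      rw [S.perf] at h4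
      have h5 : (commutator ↥P).map P.subtype = (⊤ : Subgroup ↥P).map P.subtype := by
        rw [h4, ← MonoidHom.range_eq_map, Subgroup.range_subtype]
      exact Subgroup.map_injective P.subtype_injective h5
    exact PB168.perfect_quot (PB168.perfect_quot h1 E1) R2
  have hx3 : orderOf (q2 (q1 x1)) = p := order_mk R2 (n := 3) (by rw [cR2]; norm_num) hp2 hx2
  have k4 := hc hperf cY _ hx3
  have k5 := Cen.card_inf_dvd (C := (⊤ : Subgroup (↥P ⧸ E1))) (N := R2) (q2.comp (⊤ : Subgroup (↥P ⧸ E1)).subtype)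
    (fun c hc => by
      have h1 : (c : ↥P ⧸ E1) ∈ q2.ker := hc
      rwa [QuotientGroup.ker_mk'] at h1) ⟨q1 x1, mem_top _⟩
  rw [top_inf_eq] at k5
  have k6 : Nat.card ↥(centralizer ({q1 x1} : Set (↥P ⧸ E1))) ∣ b * c := k5.trans (Nat.mul_dvd_mul k3 k4)
  exact k2.trans (Nat.mul_dvd_mul k1 k6)

end Sheet

theorem card_a {p : ℕ} [hp : Fact p.Prime] (hp2 : p ≠ 2) {n : ℕ}
    (hc : ∀ y : PSL3, orderOf y = p → Nat.card ↥(centralizer ({y} : Set PSL3)) ∣ n)
    {x : Spor.He} (hx : orderOf x = p) (hxa : x * gn .a = gn .a * x) :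
    Nat.card ↥(centralizer ({gn .a} : Set Spor.He) ⊓ centralizer ({x} : Set Spor.He)) ∣ 8 * n := by
  have := HeThree.finite_he
  have hfin : Finite PSL3 := Cfsg.Agent.CpAut.SmallP.PslFour.finite_PSL3
  have hxL : x ∈ L := by
    have h1 : x * x ∈ L := by
      rcases two hxa hxa with h | h | h
      · exact L.mul_mem h h
      · exact L.mul_mem h h
      · exact h
    have hodd : Odd p := hp.out.odd_of_ne_two hp2
    obtain ⟨k, hk⟩ := hodd
    have h2 : x = (x * x) ^ (k + 1) := by
      have h3 : x ^ p = 1 := by rw [← hx, pow_orderOf_eq_one]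
      rw [← pow_two, ← pow_mul, show 2 * (k + 1) = p + 1 by omega, pow_succ, h3, one_mul]
    rw [h2]
    exact L.pow_mem h1 _
  set D := centralizer ({gn .a} : Set Spor.He) ⊓ centralizer ({x} : Set Spor.He) with hD
  have h1 := Cen.card_of_two D L fun c hc d hd =>
    two (mem_centralizer_singleton_iff.1 hc.1) (mem_centralizer_singleton_iff.1 hd.1)
  have h2 : Nat.card ↥(D ⊓ L) ∣ Nat.card ↥(L ⊓ centralizer ({x} : Set Spor.He)) :=
    card_dvd_of_le fun c hc => ⟨hc.2, hc.1.2⟩
  have ho : orderOf (Th ⟨x, hxL⟩) = p := by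
    refine orderOf_eq_prime ?_ ?_
    · rw [← map_pow]
      have h4 : (⟨x, hxL⟩ : ↥L) ^ p = 1 := Subtype.ext (by rw [Subgroup.coe_pow, ← hx]; exact pow_orderOf_eq_one x)
      rw [h4, map_one]
    · intro h
      have h4 : (⟨x, hxL⟩ : ↥L) ∈ Th.ker := h
      rw [ker_Th] at h4
      exact Cen.not_mem_of_card hp.out hp2 (N := V) (n := 2) (by rw [card_V]; norm_num) hx
        (mem_subgroupOf.1 h4)
  have h3 := Cen.card_inf_dvd (C := L) (N := V) Th (fun c hc => by
    have h4 : c ∈ Th.ker := hc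
    rw [ker_Th] at h4
    exact mem_subgroupOf.1 h4) ⟨x, hxL⟩
  have h4 := hc _ ho
  have h5 : Nat.card ↥(V ⊓ centralizer ({x} : Set Spor.He)) ∣ 4 := by
    rw [← card_V]
    exact card_dvd_of_le inf_le_left
  exact h1.trans ((Nat.mul_dvd_mul_left 2 (h2.trans (h3.trans (Nat.mul_dvd_mul h5 h4)))).trans
    (by rw [← mul_assoc]; norm_num))

/-- `16` does not divide `|C(t) ∩ C(x)|` -/
def B16 (p : ℕ) (s : Spor.He) : Prop :=
  ∀ x : Spor.He, orderOf x = p → x * s = s * x →
    ¬ 2 ^ 4 ∣ Nat.card ↥(centralizer ({s} : Set Spor.He) ⊓ centralizer ({x} : Set Spor.He))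

theorem B16.conj {p : ℕ} {s t : Spor.He} (h : B16 p s) (hst : IsConj s t) : B16 p t := by
  obtain ⟨g, rfl⟩ := isConj_iff.1 hst
  intro x hx hxt
  have h1 : orderOf (g⁻¹ * x * g) = p := by
    rw [← hx]
    have := (MulAut.conj g⁻¹).orderOf_eq x
    rw [MulAut.conj_apply, inv_inv] at this
    exact this
  rw [Cen.card_inf_conj]
  refine h (g⁻¹ * x * g) h1 ?_
  calc g⁻¹ * x * g * s = g⁻¹ * (x * (g * s * g⁻¹)) * g := by group
    _ = g⁻¹ * (g * s * g⁻¹ * x) * g := by rw [hxt]
    _ = s * (g⁻¹ * x * g) := by group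

theorem b16_a {p : ℕ} (hp : p = 3 ∨ p = 5 ∨ p = 7) : B16 p (gn .a) := by
  have h3 : Fact (Nat.Prime 3) := ⟨by norm_num⟩
  have h5 : Fact (Nat.Prime 5) := ⟨by norm_num⟩
  have h7 : Fact (Nat.Prime 7) := ⟨by norm_num⟩
  intro x hx hxa hd
  rcases hp with rfl | rfl | rfl
  · have := hd.trans (card_a (by norm_num) (fun y hy => LFour.card_three hy) hx hxa)
    norm_num at this
  · have := hd.trans (card_a (by norm_num) (fun y hy => (LFour.card_five hy).dvd) hx hxa)
    norm_num at this
  · have := hd.trans (card_a (by norm_num) (fun y hy => (LFour.card_seven hy).dvd) hx hxa)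
    norm_num at this

theorem card_z : Nat.card (centralizer ({KFacts.He.Bound.z} : Set Spor.He)) = 21504 :=
  KFacts.He.Classes.card_centralizer

theorem b16_z {p : ℕ} (hp : p = 3 ∨ p = 5 ∨ p = 7) : B16 p KFacts.He.Bound.z := by
  have h3 : Fact (Nat.Prime 3) := ⟨by norm_num⟩
  have h7 : Fact (Nat.Prime 7) := ⟨by norm_num⟩
  have := HeThree.finite_he
  intro x hx hxz hd
  have S := KFacts.TwoSix.Sheet.sheet_of KFacts.He.Hyp.hyp.inj
  rw [KFacts.He.Hyp.hyp.map_zz] at S
  rcases hp with rfl | rfl | rfl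
  · have h1 := card_sheet S (by rw [KFacts.He.Hyp.hyp.range]) (p := 3) (by norm_num) hx hxz (a := 4) (b := 2) (c := 3)
      (fun i hi hm => by
        interval_cases i
        · norm_num
        · exact absurd hm (by decide)
        · norm_num
        · exact absurd hm (by decide))
      (fun i hi hm => by
        interval_cases i
        · exact absurd hm (by decide)
        · norm_num
        · exact absurd hm (by decide))
      (fun h1 h2 y hy => (PB168.card_three h1 h2 hy).dvd)
    have h2 := hd.trans h1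
    norm_num at h2
  · -- 5 does not divide `|C(z)|`
    have h1 : x ∈ centralizer ({KFacts.He.Bound.z} : Set Spor.He) := mem_centralizer_singleton_iff.2 hxz
    have h2 := orderOf_dvd_natCard (⟨x, h1⟩ : centralizer ({KFacts.He.Bound.z} : Set Spor.He))
    rw [Subgroup.orderOf_mk, hx, card_z] at h2
    norm_num at h2
  · have h1 := card_sheet S (by rw [KFacts.He.Hyp.hyp.range]) (p := 7) (by norm_num) hx hxz (a := 2) (b := 1) (c := 7)
      (fun i hi hm => by
        interval_cases i
        · exact absurd hm (by decide)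
        · norm_num
        · exact absurd hm (by decide)
        · exact absurd hm (by decide))
      (fun i hi hm => by
        interval_cases i
        · norm_num
        · exact absurd hm (by decide)
        · exact absurd hm (by decide))
      (fun h1 h2 y hy => (PB168.card_seven h1 h2 hy).dvd)
    have h2 := hd.trans h1
    norm_num at h2

theorem b16 {p : ℕ} (hp : p = 3 ∨ p = 5 ∨ p = 7) (t : Spor.He) (ht : orderOf t = 2) : B16 p t := by
  have htt : t * t = 1 := by rw [← pow_two, ← ht, pow_orderOf_eq_one]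
  have ht1 : t ≠ 1 := by
    rintro rfl
    rw [orderOf_one] at ht
    omega
  rcases HeThree.classes htt ht1 with h | h
  · exact (b16_z hp).conj h
  · exact (b16_a hp).conj h

theorem card_he : Nat.card Spor.He = 4030387200 := KFacts.He.Classes.card_he

theorem order_cases {y : Spor.He} (hy : (orderOf y).Prime) :
    orderOf y = 2 ∨ orderOf y = 3 ∨ orderOf y = 5 ∨ orderOf y = 7 ∨ orderOf y = 17 := by
  have h1 := orderOf_dvd_natCard y
  rw [card_he, show (4030387200 : ℕ) = 2 ^ 10 * 3 ^ 3 * 5 ^ 2 * 7 ^ 3 * 17 by norm_num] at h1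
  simpa using PBTools.mem_of_dvd hy [2, 3, 5, 7, 17] [10, 3, 2, 3, 1] (by decide) (by simpa using h1)

theorem card_seventeen {y : Spor.He} (hy : orderOf y = 17) :
    Nat.card (centralizer ({y} : Set Spor.He)) = 17 :=
  H547.SelfCent.HeRow.he ⟨MulEquiv.refl _⟩ card_he hy

theorem not_dvd_two (y : Spor.He) (hy : (orderOf y).Prime) (h2 : orderOf y ≠ 2) :
    ¬ 2 ^ (10 + 1 - 7) ∣ Nat.card (centralizer ({y} : Set Spor.He)) := by
  have := HeThree.finite_he
  have key : orderOf y = 3 ∨ orderOf y = 5 ∨ orderOf y = 7 →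
      ¬ 2 ^ 4 ∣ Nat.card (centralizer ({y} : Set Spor.He)) := fun h =>
    Cen.not_dvd_of_inv (by norm_num) fun t ht hyt => b16 h t ht y rfl hyt
  rcases order_cases hy with h | h | h | h | h
  · exact absurd h h2
  · exact key (Or.inl h)
  · exact key (Or.inr (Or.inl h))
  · exact key (Or.inr (Or.inr h))
  · rw [card_seventeen h]
    norm_num

open Cfsg.Agent.H133.PB Cfsg.Agent.H709.PB
open Cfsg.Agent.H492.IMHeCnt Cfsg.Agent.H492.IMHeDat Cfsg.Agent.H492.IMTools

theorem row {p : ℕ} (hp : p.Prime) (hd : p ∣ Nat.card Spor.He) : Row p Spor.He := by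
  have := HeThree.finite_he
  have h3 : Fact (Nat.Prime 3) := ⟨by norm_num⟩
  have h5 : Fact (Nat.Prime 5) := ⟨by norm_num⟩
  have h7 : Fact (Nat.Prime 7) := ⟨by norm_num⟩
  have h17 : Fact (Nat.Prime 17) := ⟨by norm_num⟩
  have h2 : Fact (Nat.Prime 2) := ⟨by norm_num⟩
  have hpf : Fact p.Prime := ⟨hp⟩
  by_cases hp2 : p = 2
  · subst hp2
    have h1 := Cfsg.Agent.H492.IMTools.card_fus_eq H492.IMHe.fact17 H492.IMHe.o17 (c := 1) (by rw [H492.IMHe.card17]) (e := 8) (by
      rw [card_he]; intro k hk h; omega)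
    refine Row.of_real_odd (q := 17) (g := wd [.f, .d, .c, .b]) ⟨1, by rw [H492.IMHe.o17, pow_one]⟩ ?_
      (isConj_inv_of_even (p := 17) ?_ ?_) (by rw [H492.IMHe.card17]; decide)
    · intro h
      have := H492.IMHe.o17
      rw [h, orderOf_one] at this
      omega
    · rw [← H492.IMHe.o17]; exact pow_orderOf_eq_one _
    · rw [h1.1]; decide
  have nb2 : NB 2 7 Spor.He := NB.of_orders (a := 10) (by rw [card_he]; norm_num) not_dvd_two
  have nb3 : NB 3 1 Spor.He := PBTools.nb_of_pair H492.IMHe.o3 H492.IMHe.oy3 (comm_of_chk (by decide +kernel))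
    (H492.IMHe.pair (p := 3) XB3 YB3 _ H492.IMHe.o3 H492.IMHe.oy3 (by decide +kernel) (by decide +kernel)
      (by norm_num) qB3).2
  have nb5 : NB 5 1 Spor.He := PBTools.nb_of_pair H492.IMHe.o5 H492.IMHe.oy5 (comm_of_chk (by decide +kernel))
    (H492.IMHe.pair (p := 5) XB5 YB5 _ H492.IMHe.o5 H492.IMHe.oy5 (by decide +kernel) (by decide +kernel)
      (by norm_num) qB5).2
  have nb7 : NB 7 1 Spor.He := PBTools.nb_of_pair H492.IMHe.o7 H492.IMHe.oy7 (comm_of_chk (by decide +kernel))
    (H492.IMHe.pair (p := 7) XB7 YB7 _ H492.IMHe.o7 H492.IMHe.oy7 (by decide +kernel) (by decide +kernel)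
      (by norm_num) qB7).2
  have nb17 : NB 17 1 Spor.He := NB.of_self (g := wd [.f, .d, .c, .b])
    (IsPGroup.of_card (n := 1) (by rw [H492.IMHe.card17, pow_one])) ⟨1, by rw [H492.IMHe.o17, pow_one]⟩
  exact PBTools.row_of_list hp (H492.IMHe.im_he ⟨MulEquiv.refl _⟩ hd) hd [(2, 7), (3, 1), (5, 1), (7, 1), (17, 1)]
    (by decide) (by
      intro x hx
      simp only [List.mem_cons, List.not_mem_nil, or_false] at hx
      rcases hx with rfl | rfl | rfl | rfl | rfl
      · exact ⟨by norm_num, by norm_num, by rw [card_he]; norm_num, nb2⟩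
      · exact ⟨by norm_num, by norm_num, by rw [card_he]; norm_num, nb3⟩
      · exact ⟨by norm_num, by norm_num, by rw [card_he]; norm_num, nb5⟩
      · exact ⟨by norm_num, by norm_num, by rw [card_he]; norm_num, nb7⟩
      · exact ⟨by norm_num, by norm_num, by rw [card_he]; norm_num, nb17⟩)
    (by
      rw [card_he]
      have hc : p = 3 ∨ p = 5 ∨ p = 7 ∨ p = 17 := by
        rw [card_he, show (4030387200 : ℕ) = 2 ^ 10 * 3 ^ 3 * 5 ^ 2 * 7 ^ 3 * 17 by norm_num] at hd
        have := PBTools.mem_of_dvd hp [2, 3, 5, 7, 17] [10, 3, 2, 3, 1] (by decide) (by simpa using hd)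
        simpa [hp2] using this
      rcases hc with rfl | rfl | rfl | rfl <;> decide)

/-- **S4826 for the Held group** -/
theorem row_he {S : Type u} [Group S] (h : Cfsg.Spor.IsoHe S) {p : ℕ} (hp : p.Prime) (hd : p ∣ Nat.card S) :
    Row p S := by
  obtain ⟨e⟩ := h
  rw [Nat.card_congr e.toEquiv] at hd
  exact (row hp hd).of_equiv e

end Cfsg.Agent.H394.PBHe
end
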