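import Cfsg.Agent.H394.PBTools_m3
import Cfsg.Agent.BpSpor.Cen
import Cfsg.Agent.H492.FactsHN
import Cfsg.Agent.H845.HNNineteen
import Cfsg.Agent.KFacts.HN.Sheet
import Cfsg.Agent.SigZeroHN.Main
import Cfsg.Agent.FastGrp
import Cfsg.Agent.Prune
set_option linter.all false
prune_inst 0x7f00000000000000000000000000000000000000000000000000000000000000000000000000000000000000000000000000000000000000000000000000000000000000000000000000000000000000003fffffffffffffffffffffffffffbeffbdffffffff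
open scoped Cfsg.Agent.FastGrp

/-!
# S4826: the row of the Harada-Norton group (helper394)

Every irreducible character outside the principal 2-block has degree divisible by 4, so the characters of degree
`8910` and `365750` are in the principal 2-block; `8910` is also in the principal 19-block.
-/

set_option autoImplicit false

namespace Cfsg.Agent.H394.PBHN

open Subgroup Cfsg Cfsg.Agent.BpSpor Cfsg.Agent.KFacts.HN Cfsg.Agent.H133.PB Cfsg.Agent.H709.PB
open Cfsg.Agent.HN.XWords Cfsg.Agent.HN.XInst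

universe u

theorem card_hn : Nat.card Cfsg.Spor.HN = 273030912000000 := Classes.card_HN

theorem card_w {p : ℕ} (hp : p.Prime) (hp2 : p ≠ 2) {x : Spor.HN} (hx : orderOf x = p) (hxw : x * W0 = W0 * x) :
    Nat.card ↥(centralizer ({W0} : Set Spor.HN) ⊓ centralizer ({x} : Set Spor.HN)) ∣ 2 ^ 12 * 225 := by
  have := finite_HN
  have hpf : Fact p.Prime := ⟨hp⟩
  have hxP : x ∈ PP := mem_PP.2 hxw
  have h1 := Cen.card_inf_dvd (C := PP) (N := RS) ρ (fun c hc => ⟨c, hc, rfl⟩) ⟨x, hxP⟩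
  have h2 : Nat.card ↥(RS ⊓ centralizer ({x} : Set Spor.HN)) ∣ 2 ^ (9 - 2) := by
    refine Cen.card_fix_dvd hp2 (n := 9) (by rw [card_RS]; norm_num) hx (fun y hy => conj_RS hxP hy) fun h => ?_
    rcases cent_RS h with h3 | h3
    · rw [h3, orderOf_one] at hx
      exact hp.one_lt.ne hx
    · have h4 : W0 * W0 = 1 := W0_sq
      have h5 : orderOf x ∣ 2 := orderOf_dvd_of_pow_eq_one (by rw [h3, pow_two, h4])
      rw [hx] at h5
      exact hp2 ((Nat.prime_dvd_prime_iff_eq hp Nat.prime_two).1 h5)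
  have h3 : Nat.card ↥(centralizer ({ρ ⟨x, hxP⟩} : Set Lq)) ∣ 7200 := by
    rw [← card_Lq]
    exact card_subgroup_dvd_card _
  exact h1.trans ((Nat.mul_dvd_mul h2 h3).trans (by norm_num))

theorem not_dvd_two (y : Spor.HN) (hy : (orderOf y).Prime) (h2 : orderOf y ≠ 2) :
    ¬ 2 ^ (14 + 1 - 2) ∣ Nat.card (centralizer ({y} : Set Spor.HN)) := by
  have := finite_HN
  refine Cen.not_dvd_of_inv (by norm_num) fun t ht hyt hd => ?_
  rcases SigZeroHN.card_centralizer_cases ht with ⟨-, hc⟩ | ⟨hc, -⟩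
  · have h3 := hd.trans (card_dvd_of_le inf_le_left)
    rw [hc] at h3
    norm_num at h3
  · obtain ⟨g, rfl⟩ := isConj_iff.1 hc.symm
    rw [Cen.card_inf_conj] at hd
    have h1 : orderOf (g⁻¹ * y * g) = orderOf y := by
      have := (MulAut.conj g⁻¹).orderOf_eq y
      rw [MulAut.conj_apply, inv_inv] at this
      exact this
    have h3 := hd.trans (card_w hy h2 h1 (by
      calc g⁻¹ * y * g * W0 = g⁻¹ * (y * (g * W0 * g⁻¹)) * g := by group
        _ = g⁻¹ * (g * W0 * g⁻¹ * y) * g := by rw [hyt]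
        _ = W0 * (g⁻¹ * y * g) := by group))
    norm_num at h3

theorem row {p : ℕ} (hp : p.Prime) (hd : p ∣ Nat.card Spor.HN) : Row p Spor.HN := by
  have := finite_HN
  have h2f : Fact (Nat.Prime 2) := ⟨by norm_num⟩
  have h19f : Fact (Nat.Prime 19) := ⟨by norm_num⟩
  obtain ⟨χ, hχ⟩ := H492.IMHN.exists_8910
  obtain ⟨ψ, hψ⟩ := H492.IMHN.exists_365750
  have dχ : charDegree (χ : Spor.HN → ℂ) = 8910 := H670.PSing.charDegree_eq_of hχ
  have dψ : charDegree (ψ : Spor.HN → ℂ) = 365750 := H670.PSing.charDegree_eq_of hψ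
  have nb2 : NB 2 2 Spor.HN := NB.of_orders (a := 14) (by rw [card_hn]; norm_num) not_dvd_two
  by_cases hp2 : p = 2
  · subst hp2
    obtain ⟨x, hx, hc⟩ := H845.HNNineteen.hn_nineteen
    have nb19 : NB 19 1 Spor.HN := NB.of_self (g := x) (IsPGroup.of_card (n := 1) (by rw [hc, pow_one]))
      ⟨1, by rw [hx, pow_one]⟩
    exact Row.intro (q := 19) (by norm_num) (by norm_num) (by rw [card_hn]; norm_num)
      (PBTools.bd_of_nb nb19 χ (by rw [dχ]; norm_num) (by rw [dχ]; norm_num))
  · refine Row.intro (q := 2) Nat.prime_two (Ne.symm hp2) (by rw [card_hn]; norm_num) ?_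
    have hc : p ∈ [2, 3, 5, 7, 11, 19] := by
      rw [card_hn, show (273030912000000 : ℕ) = 2 ^ 14 * 3 ^ 6 * 5 ^ 6 * 7 * 11 * 19 by norm_num] at hd
      exact PBTools.mem_of_dvd hp [2, 3, 5, 7, 11, 19] [14, 6, 6, 1, 1, 1] (by decide) (by simpa [mul_assoc] using hd)
    simp only [List.mem_cons, List.not_mem_nil, or_false] at hc
    rcases hc with rfl | rfl | rfl | rfl | rfl | rfl
    · exact absurd rfl hp2
    · exact PBTools.bd_of_nb nb2 χ (by rw [dχ]; norm_num) (by rw [dχ]; norm_num)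
    · exact PBTools.bd_of_nb nb2 χ (by rw [dχ]; norm_num) (by rw [dχ]; norm_num)
    · exact PBTools.bd_of_nb nb2 ψ (by rw [dψ]; norm_num) (by rw [dψ]; norm_num)
    · exact PBTools.bd_of_nb nb2 χ (by rw [dχ]; norm_num) (by rw [dχ]; norm_num)
    · exact PBTools.bd_of_nb nb2 ψ (by rw [dψ]; norm_num) (by rw [dψ]; norm_num)

/-- **S4826 for the Harada-Norton group** -/
theorem row_hn {S : Type u} [Group S] (h : Cfsg.Spor.IsoHN S) {p : ℕ} (hp : p.Prime) (hd : p ∣ Nat.card S) :
    Row p S := by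
  obtain ⟨e⟩ := h
  rw [Nat.card_congr e.toEquiv] at hd
  exact (row hp hd).of_equiv e

end Cfsg.Agent.H394.PBHN
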