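import Mathlib
import Cfsg.Agent.H394.SqSzRee_m3
import Cfsg.Agent.Nodes.WittInst
import Cfsg.Agent.H794.DefRank_m3
import Cfsg.Agent.H794.PsuNotAb
import Cfsg.Agent.S0280
import Cfsg.Prelude.Def_LieTypeChar
import Cfsg.Agent.FastGrp
import Cfsg.Agent.Prune
set_option linter.all false
prune_inst 0x7ffffffefffffddfffff7e7ffff9dffe1bd7dfffffdfff43fffeefffdfff839e3bcdfbaf9de0f0ff4ef7e23438b87853fbfffeffe36bfc7ffffd5ff45ffbee5ff7ffbd2d51dbb7e4dffc6ffffbf17fce7f3fffffffffffffffffffffffffffbeffffffffffff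
open scoped Cfsg.Agent.FastGrp

/-!
# `SQ` for the unitary groups `PSU₃(q)`
-/

set_option autoImplicit false

namespace Cfsg.Agent.H394.SqPsu3

open MulAction Subgroup Cfsg Cfsg.Agent.H396 Cfsg.Agent.H394.SqTI Cfsg.Agent.H394.SqBasic
  Cfsg.Agent.H394.SqSzRee

section ti

open Cfsg.Agent.ChevalleyStructure.CoxeterGeom Cfsg.Agent.Tits.Roots
open Cfsg.Agent.Nodes.Comb Cfsg.Agent.Nodes.Reps Cfsg.Agent.Nodes.WittRoot Cfsg.Agent.Nodes.BNOf
open Cfsg.Agent.Nodes.RGDLib Cfsg.Agent.Nodes.WittAll Cfsg.Agent.Nodes.WittU Cfsg.Agent.Nodes.RGDChev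
open Cfsg.Agent.TitsThree Cfsg.Agent.TitsThree.Siegel Cfsg.Agent.TitsThree.SiegelGen
  Cfsg.Agent.TitsThree.WittFrame Cfsg.Agent.TitsThree.WBridge Cfsg.Agent.TitsThree.WittWeyl
  Cfsg.Agent.TitsThree.FrameCN

theorem ti_psu3 {F : Type*} [Field F] [Fintype F] {q : ℕ} (hF : Fintype.card F = q ^ 2) {p : ℕ}
    [Fact p.Prime] [CharP F p] [Finite (PSU 3 F q)] : Cfsg.Agent.H794.TI p (PSU 3 F q) := by
  obtain ⟨W, -⟩ := exists_wframe (N := 3) (m := 1) hF (Or.inr rfl)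
  obtain ⟨p0, hp0, -⟩ := exists_adm hF W
  have R := rgdC_model (KInstU.model hF le_rfl W) (AmbT.of_amb (amb_U hF W) p) hp0
    (CoxeterMatrix.B 1).toCoxeterSystem
  have h1 := Cfsg.Agent.Nodes.WittModel.G1_eq_top (KInstU.model hF le_rfl W) (by norm_num : 0 < 1)
    (CoxeterMatrix.B 1).toCoxeterSystem
  have : Finite (CoxeterMatrix.B 1).Group :=
    Cfsg.Agent.Nodes.TypeC.finite_W (CoxeterMatrix.B 1).toCoxeterSystem
  refine Cfsg.Agent.H794.DefClosed.ti_of_rgd R ?_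
  rw [eq_top_iff, ← h1]
  exact le_sup_right

end ti

/-- TI in terms of intersections -/
theorem inf_of_ti {T : Type*} [Group T] [Finite T] {p : ℕ} [hp : Fact p.Prime]
    (h : Cfsg.Agent.H794.TI p T) (P Q : Sylow p T) (hPQ : P ≠ Q) :
    (P : Subgroup T) ⊓ Q = ⊥ := by
  obtain ⟨g, rfl⟩ := _root_.MulAction.exists_smul_eq T P Q
  by_contra hne
  obtain ⟨x, hx, hx1⟩ := ((P : Subgroup T) ⊓ ((g • P : Sylow p T) : Subgroup T)).bot_or_exists_ne_one.resolve_left hne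
  apply hPQ
  obtain ⟨y, hy, hyx⟩ := hx.2
  have hyx' : g * y * g⁻¹ = x := hyx
  have h1 := h P y hy (by rintro rfl; apply hx1; rw [← hyx']; group) g (by rw [hyx']; exact hx.1)
  exact (Sylow.smul_eq_iff_mem_normalizer.2 h1).symm

theorem fr_all' {T : Type*} [Group T] [Finite T] {p : ℕ} [hp : Fact p.Prime] {R : Subgroup T}
    (hR : IsPGroup p R) {a b : T} (ha : a ∈ R) (hb : b ∈ R) (hab : a * b ≠ b * a) (P : Sylow p T) :
    Fr p (P : Subgroup T) := by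
  obtain ⟨S, hS⟩ := hR.exists_le_sylow
  obtain ⟨g, hg⟩ := _root_.MulAction.exists_smul_eq T S P
  have key : ∀ x ∈ R, g * x * g⁻¹ ∈ (P : Subgroup T) := by
    intro x hx
    rw [← hg, Sylow.smul_def]
    exact ⟨x, hS hx, rfl⟩
  refine fr_of_not_comm P.isPGroup' (x := ⟨_, key a ha⟩) (y := ⟨_, key b hb⟩) ?_
  intro h3
  have h4 : (g * a * g⁻¹) * (g * b * g⁻¹) = (g * b * g⁻¹) * (g * a * g⁻¹) := congrArg Subtype.val h3
  apply hab
  have e1 : a * b = g⁻¹ * ((g * a * g⁻¹) * (g * b * g⁻¹)) * g := by group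
  rw [e1, h4]; group

theorem card_psu3 {F : Type*} [Field F] [Fintype F] {q : ℕ} (hF : Fintype.card F = q ^ 2) :
    Nat.gcd 3 (q + 1) * Nat.card (PSU 3 F q) = q ^ 3 * ((q ^ 2 - 1) * (q ^ 3 + 1)) := by
  have h := S0280.result (F := F) (q := q) hF 3 (by norm_num)
  simp only [Finset.prod_range_succ, Finset.prod_range_zero] at h
  rw [if_pos (by decide), if_neg (by decide), if_pos (by decide)] at h
  generalize Nat.card (PSU 3 F q) = N at h ⊢
  norm_num only [_root_.pow_one, _root_.one_mul] at h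
  apply Nat.eq_of_mul_eq_mul_left (show 0 < q + 1 by omega)
  calc (q + 1) * (Nat.gcd 3 (q + 1) * N) = Nat.gcd 3 (q + 1) * ((q + 1) * N) := by ring
    _ = _ := h
    _ = _ := by ring

/-- a prime divisor of `q² - q + 1` different from `3` -/
theorem exists_prime (q : ℕ) (hq : 2 < q) : ∃ r, r.Prime ∧ r ∣ q ^ 2 - q + 1 ∧ r ≠ 3 := by
  by_contra hcon
  push Not at hcon
  have hqq : q * 3 ≤ q ^ 2 := by rw [pow_two]; exact Nat.mul_le_mul_left _ (by omega)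
  obtain ⟨N, hN⟩ : ∃ N, N = q ^ 2 - q + 1 := ⟨_, rfl⟩
  rw [← hN] at hcon
  have h1 : N = 3 ^ N.primeFactorsList.length := by
    apply Nat.eq_prime_pow_of_unique_prime_dvd (by omega)
    intro d hd hdN
    exact hcon d hd hdN
  have h9 : ¬ 9 ∣ N := by
    intro h9
    have hz : ((q : ℤ) ^ 2 - q + 1) = N := by
      rw [hN]; push_cast [Nat.cast_sub (show q ≤ q ^ 2 by omega)]; ring
    have h2 : (9 : ℤ) ∣ (q : ℤ) ^ 2 - q + 1 := by rw [hz]; exact_mod_cast h9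
    have h3 : (((q : ℤ) ^ 2 - q + 1 : ℤ) : ZMod 9) = 0 := (ZMod.intCast_zmod_eq_zero_iff_dvd _ 9).2 h2
    push_cast at h3
    have h4 : ∀ x : ZMod 9, x ^ 2 - x + 1 ≠ 0 := by decide
    exact h4 _ h3
  have h2 : N.primeFactorsList.length < 2 := by
    by_contra h
    apply h9
    rw [h1, show 9 = 3 ^ 2 by norm_num]
    exact pow_dvd_pow 3 (not_lt.1 h)
  have h3 : N ≤ 3 := by
    rw [h1]
    calc 3 ^ N.primeFactorsList.length ≤ 3 ^ 1 := Nat.pow_le_pow_right (by norm_num) (by omega)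
      _ = 3 := by norm_num
  omega

/-- **`PSU₃(q)`.** -/
theorem sq_psu3 {T : Type*} [Group T] [Finite T] [IsSimpleGroup T] {F : Type*} [Field F] [Fintype F]
    {q : ℕ} (hF : Fintype.card F = q ^ 2) (hq : q ≠ 2) (e : T ≃* PSU 3 F q) : SQ T := by
  refine SQ.congr e.symm ?_
  have hs : IsSimpleGroup (PSU 3 F q) := simple_of_equiv e
  have hf : Finite (PSU 3 F q) := Finite.of_equiv T e.toEquiv
  obtain ⟨p, hchar⟩ := CharP.exists F
  have hp : Fact p.Prime := ⟨CharP.char_is_prime F p⟩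
  obtain ⟨N, hpN, hN⟩ := FiniteField.card F p
  -- `q` is a power of `p`
  have hqp : ∃ n, q = p ^ n := by
    have h1 : q ∣ p ^ (N : ℕ) := by rw [← hN, hF]; exact dvd_pow_self q (by norm_num)
    obtain ⟨n, -, hn⟩ := (Nat.dvd_prime_pow hp.out).1 h1
    exact ⟨n, hn⟩
  obtain ⟨n, hn⟩ := hqp
  have hn0 : n ≠ 0 := by
    rintro rfl
    rw [pow_zero] at hn
    rw [hn, one_pow] at hF
    have := Fintype.one_lt_card (α := F)
    omega
  have hq2 : 2 ≤ q := by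
    rw [hn]
    calc 2 ≤ p := hp.out.two_le
      _ = p ^ 1 := (pow_one p).symm
      _ ≤ p ^ n := Nat.pow_le_pow_right hp.out.pos (by omega)
  have hq3 : 2 < q := by omega
  have hpq : p ∣ q := hn ▸ dvd_pow_self p hn0
  have hple : p ≤ q := Nat.le_of_dvd (by omega) hpq
  intro M hM hsq
  left
  have hcard := card_psu3 hF
  obtain ⟨d, hd⟩ : ∃ d, d = Nat.gcd 3 (q + 1) := ⟨_, rfl⟩
  rw [← hd] at hcard
  have hd3 : d ∣ 3 := hd ▸ Nat.gcd_dvd_left _ _
  have hdq : d ∣ q ^ 2 - 1 := by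
    have h1 : d ∣ q + 1 := hd ▸ Nat.gcd_dvd_right _ _
    have h2 : q ^ 2 - 1 = (q + 1) * (q - 1) := by
      have := Nat.sq_sub_sq q 1
      rwa [one_pow] at this
    rw [h2]; exact h1.mul_right _
  obtain ⟨h, hh⟩ := hdq
  have hd0 : 0 < d := Nat.pos_of_dvd_of_pos hd3 (by norm_num)
  have hq1 : 1 ≤ q ^ 2 := Nat.one_le_pow _ _ (by omega)
  have hq4 : 9 ≤ q ^ 2 := by
    calc 9 = 3 ^ 2 := by norm_num
      _ ≤ q ^ 2 := Nat.pow_le_pow_left (by omega) 2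
  obtain ⟨r, hr, hrd, hr3⟩ := exists_prime q hq3
  have hcube : q ^ 3 + 1 = (q + 1) * (q ^ 2 - q + 1) := by
    have hqq : q ≤ q ^ 2 := Nat.le_self_pow (by norm_num) q
    zify [hqq]; ring
  have hQ1 : p ^ (3 * n - 1) = q ^ 2 * p ^ (n - 1) := by
    rw [hn, ← pow_mul, ← pow_add]
    congr 1; (clear * -; omega)
  have hph : ¬ p ∣ h := by
    intro h1
    have h2 : p ∣ q ^ 2 - 1 := by rw [hh]; exact h1.mul_left _
    have h3 : p ∣ q ^ 2 - (q ^ 2 - 1) := Nat.dvd_sub (hpq.trans (dvd_pow_self q (by norm_num))) h2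
    rw [Nat.sub_sub_self hq1] at h3
    exact hp.out.one_lt.ne' (Nat.dvd_one.1 h3)
  have hh0 : 0 < h := Nat.pos_of_ne_zero (by rintro rfl; exact hph (dvd_zero p))
  have hhle : h ≤ q ^ 2 - 1 := by rw [hh]; exact Nat.le_mul_of_pos_left _ hd0
  have hpow1 : 1 ≤ p ^ (n - 1) := Nat.one_le_pow _ _ hp.out.pos
  have hQ1le : q ^ 2 ≤ p ^ (3 * n - 1) := by rw [hQ1]; exact Nat.le_mul_of_pos_right _ (by omega)
  refine der_of_ti (p := p) (T := PSU 3 F q) (Q := q ^ 3) (Q1 := p ^ (3 * n - 1))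
    (h := h) (k := 3 * n - 1) (r := r) (inf_of_ti (ti_psu3 hF)) ?_ ?_ rfl ?_ hph ?_ ?_ hr ?_ ?_ M hM
    (not_sq_dvd hp.out hsq)
  · intro P
    obtain ⟨R, hR, a, ha, b, hb, hab⟩ := Cfsg.Agent.H794.PsuNotAb.exists_pair (p := p) (n := 3) hF le_rfl
    exact fr_all' hR ha hb hab P
  · rw [hn, ← pow_mul, ← pow_succ']
    congr 1
    (clear * - hF hN hn0 hq4; omega)
  · rw [hh] at hcard
    apply Nat.eq_of_mul_eq_mul_left hd0
    rw [hcard]; ring
  · omega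
  · intro a ha1 hap j hj
    -- `d j (1 + a Q1) = (p - a) (q² - 1)`
    have h1 : (d * j : ℤ) * (1 + a * (q ^ 2 * p ^ (n - 1))) = (p - a) * (q ^ 2 - 1) := by
      have h2 : d * (j * (1 + a * (q ^ 2 * p ^ (n - 1)))) = d * ((p - a) * h) := by
        rw [← hQ1, hj]
      have h3 : d * ((p - a) * h) = (p - a) * (q ^ 2 - 1) := by rw [hh]; ring
      rw [h3] at h2
      have h4 : ((p - a : ℕ) : ℤ) = (p : ℤ) - a := by push_cast [Nat.cast_sub hap.le]; ring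
      have h5 : ((q ^ 2 - 1 : ℕ) : ℤ) = (q : ℤ) ^ 2 - 1 := by push_cast [Nat.cast_sub hq1]; ring
      have h6 : (((d * (j * (1 + a * (q ^ 2 * p ^ (n - 1)))) : ℕ)) : ℤ) =
        (((p - a) * (q ^ 2 - 1) : ℕ) : ℤ) := by rw [h2]
      rw [Nat.cast_mul (p - a), h4, h5] at h6
      rw [← h6]
      push_cast
      ring
    have h2 : ((q : ℤ) ^ 2) ∣ (d * j : ℤ) + (p - a) :=
      ⟨(p - a) - d * j * (a * p ^ (n - 1)), by linear_combination h1⟩
    have hpa : (0 : ℤ) < (p : ℤ) - a := by omega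
    have h3 := Int.le_of_dvd (by (clear * - hpa; positivity)) h2
    have h4 : (1 : ℤ) ≤ a := by omega
    have h5 : (1 : ℤ) ≤ p ^ (n - 1) := by exact_mod_cast hpow1
    have h6 : ((q : ℤ) ^ 2) ≤ a * (q ^ 2 * p ^ (n - 1)) := by
      nlinarith only [mul_le_mul h4 h5 (by norm_num) (by omega : (0:ℤ) ≤ (a : ℤ)), sq_nonneg (q : ℤ)]
    have h7 : (q : ℤ) ^ 2 - p + 1 ≤ d * j := by linarith only [ha1, h3]
    have h8 : (p : ℤ) ≤ q := by exact_mod_cast hple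
    have h9 : (2 : ℤ) < q := by exact_mod_cast hq3
    have h10 : (p : ℤ) - a ≤ q - 1 := by linarith only [hple, ha1]
    have h11 : (q : ℤ) ^ 2 - q + 1 ≤ d * j := by linarith only [hple, ha1, h3]
    have h12 : (q - 1 : ℤ) < q ^ 2 - q + 1 := by nlinarith only []
    have h13 : ((p : ℤ) - a) * (q ^ 2 - 1) ≤ (q - 1) * (q ^ 2 - 1) :=
      mul_le_mul_of_nonneg_right h10 (by linarith only [hq4])
    have h14 : ((q : ℤ) ^ 2 - q + 1) * (1 + q ^ 2) ≤ (d * j : ℤ) * (1 + a * (q ^ 2 * p ^ (n - 1))) :=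
      mul_le_mul h11 (by linarith only [h6]) (by positivity) (by (clear * -; positivity))
    nlinarith only [hq4, h1, h12, h13, h14]
  · rw [hcube]; exact hrd.mul_left _
  · intro h1
    have h2 : r ∣ q ^ 2 - 1 := by rw [hh]; exact h1.mul_left _
    have hz1 : (r : ℤ) ∣ (q : ℤ) ^ 2 - 1 := by
      have : ((q ^ 2 - 1 : ℕ) : ℤ) = (q : ℤ) ^ 2 - 1 := by push_cast [Nat.cast_sub hq1]; ring
      rw [← this]; exact_mod_cast h2
    have hz2 : (r : ℤ) ∣ (q : ℤ) ^ 2 - q + 1 := by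
      have : ((q ^ 2 - q + 1 : ℕ) : ℤ) = (q : ℤ) ^ 2 - q + 1 := by
        push_cast [Nat.cast_sub (show q ≤ q ^ 2 from Nat.le_self_pow (by norm_num) q)]; ring
      rw [← this]; exact_mod_cast hrd
    -- `3 = (q² - 1)(…) + …` : `q ≡ 2`, hence `3 ≡ 0`
    have hz3 : (r : ℤ) ∣ (q : ℤ) - 2 := by
      have := dvd_sub hz1 hz2
      have e : ((q : ℤ) ^ 2 - 1) - (q ^ 2 - q + 1) = q - 2 := by ring
      rwa [e] at this
    have hz4 : (r : ℤ) ∣ 3 := by
      have h5 := dvd_sub hz1 (hz3.mul_right ((q : ℤ) + 2))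
      have e : ((q : ℤ) ^ 2 - 1) - (q - 2) * (q + 2) = 3 := by ring
      rwa [e] at h5
    have h5 : r ∣ 3 := by exact_mod_cast hz4
    exact hr3 ((Nat.prime_dvd_prime_iff_eq hr Nat.prime_three).1 h5)

end Cfsg.Agent.H394.SqPsu3
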