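import Mathlib
import Cfsg.Prelude.Def_Classical
import Cfsg.Agent.H394.SqBasic
import Cfsg.Agent.StandardComponent.AltAut
set_option linter.all false

-- part: H394/SqNum
section
set_option autoImplicit false

namespace Cfsg.Agent.H394.SqNum

open scoped Nat

/-- The primorial is smaller than the central binomial coefficient. -/
theorem primorial_lt_choose : ∀ k : ℕ, 1 ≤ k → primorial k < (2 * k).choose k := by
  intro k
  induction k using Nat.strong_induction_on with
  | _ k ih =>
    intro hk
    rcases Nat.even_or_odd' k with ⟨a, rfl | rfl⟩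
    · -- even
      have ha : 1 ≤ a := by omega
      have h1 := primorial_add_le (le_refl a)
      have h2 := ih a (by omega) ha
      have h3 : (2 * a).choose a * (2 * a).choose a ≤ (2 * (2 * a)).choose (2 * a) := by
        have h4 := Nat.add_choose_eq (2 * a) (2 * a) (2 * a)
        have e : 2 * (2 * a) = 2 * a + 2 * a := by ring
        rw [e, h4]
        have hmem : ((a, a) : ℕ × ℕ) ∈ Finset.HasAntidiagonal.antidiagonal (2 * a) :=
          Finset.HasAntidiagonal.mem_antidiagonal.2 (show a + a = 2 * a by ring)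
        exact Finset.single_le_sum (f := fun ij : ℕ × ℕ => (2 * a).choose ij.1 * (2 * a).choose ij.2)
          (fun _ _ => Nat.zero_le _) hmem
      rw [show a + a = 2 * a by ring] at h1
      calc primorial (2 * a) ≤ primorial a * (2 * a).choose a := h1
        _ < (2 * a).choose a * (2 * a).choose a :=
            Nat.mul_lt_mul_of_pos_right h2 (Nat.choose_pos (by omega))
        _ ≤ _ := h3
    · -- odd
      rcases Nat.eq_zero_or_pos a with rfl | ha
      · decide
      have h1 := primorial_add_le (show a ≤ a + 1 by omega)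
      have h2 := ih (a + 1) (by omega) (by omega)
      rw [show a + 1 + a = 2 * a + 1 by ring] at h1
      have h5 : (2 * (a + 1)).choose (a + 1) = 2 * (2 * a + 1).choose (a + 1) := by
        have := Nat.choose_succ_succ (2 * a + 1) a
        rw [show 2 * (a + 1) = (2 * a + 1) + 1 by ring, this]
        have h6 : (2 * a + 1).choose a = (2 * a + 1).choose (a + 1) :=
          (Nat.choose_symm_of_eq_add (by ring)).symm
        rw [h6]; ring
      have h3 : 2 * ((2 * a + 1).choose (a + 1) * (2 * a + 1).choose (a + 1)) ≤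
          (2 * (2 * a + 1)).choose (2 * a + 1) := by
        have h4 := Nat.add_choose_eq (2 * a + 1) (2 * a + 1) (2 * a + 1)
        have e : 2 * (2 * a + 1) = (2 * a + 1) + (2 * a + 1) := by ring
        rw [e, h4]
        have h7 : ({(a, a + 1), (a + 1, a)} : Finset (ℕ × ℕ)) ⊆ Finset.HasAntidiagonal.antidiagonal (2 * a + 1) := by
          intro x hx
          rw [Finset.mem_insert, Finset.mem_singleton] at hx
          rw [Finset.HasAntidiagonal.mem_antidiagonal]
          rcases hx with rfl | rfl <;> simp <;> ring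
        refine le_trans ?_ (Finset.sum_le_sum_of_subset h7)
        rw [Finset.sum_pair (by simp)]
        have h6 : (2 * a + 1).choose a = (2 * a + 1).choose (a + 1) :=
          (Nat.choose_symm_of_eq_add (by ring)).symm
        simp only [h6]
        exact le_of_eq (by ring)
      calc primorial (2 * a + 1) ≤ primorial (a + 1) * (2 * a + 1).choose (a + 1) := h1
        _ < (2 * (a + 1)).choose (a + 1) * (2 * a + 1).choose (a + 1) :=
            Nat.mul_lt_mul_of_pos_right h2 (Nat.choose_pos (by omega))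
        _ = 2 * ((2 * a + 1).choose (a + 1) * (2 * a + 1).choose (a + 1)) := by rw [h5]; ring
        _ ≤ _ := h3

/-- Square-free version of Sylvester's theorem. -/
theorem exists_prime_gt {n k : ℕ} (hk : 1 ≤ k) (hkn : 2 * k ≤ n) (hsq : Squarefree (n.choose k)) :
    ∃ l : ℕ, l.Prime ∧ k < l ∧ l ∣ n.choose k := by
  by_contra hcon
  push Not at hcon
  have h1 : n.choose k ≤ primorial k := by
    have h2 : n.choose k = ∏ p ∈ (n.choose k).primeFactors, p :=
      (Nat.prod_primeFactors_of_squarefree hsq).symm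
    rw [h2, primorial]
    apply Finset.prod_le_prod_of_subset_of_one_le'
    · intro p hp
      rw [Nat.mem_primeFactors] at hp
      rw [Finset.mem_filter, Finset.mem_range]
      refine ⟨?_, hp.1⟩
      by_contra h
      exact hcon p hp.1 (by omega) hp.2.1
    · intro p hp _
      exact (Finset.mem_filter.1 hp).2.one_lt.le
  have h2 := primorial_lt_choose k hk
  have h3 : (2 * k).choose k ≤ n.choose k := Nat.choose_le_choose k hkn
  omega

/-- Odd version. -/
theorem exists_odd_prime_gt {n k : ℕ} (hn : 3 ≤ n) (hk : 1 ≤ k) (hkn : 2 * k ≤ n)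
    (hsq : Squarefree (n.choose k)) : ∃ l : ℕ, l.Prime ∧ l ≠ 2 ∧ k < l ∧ l ∣ n.choose k := by
  rcases Nat.lt_or_ge 1 k with h | h
  · obtain ⟨l, hl, hkl, hld⟩ := exists_prime_gt hk hkn hsq
    exact ⟨l, hl, by omega, hkl, hld⟩
  · have hk1 : k = 1 := by omega
    subst hk1
    rw [Nat.choose_one_right] at hsq ⊢
    by_contra hcon
    push Not at hcon
    have h1 : n ∣ 2 := by
      have h2 : n = ∏ p ∈ n.primeFactors, p := (Nat.prod_primeFactors_of_squarefree hsq).symm
      have h3 : n.primeFactors ⊆ {2} := by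
        intro p hp
        rw [Nat.mem_primeFactors] at hp
        rw [Finset.mem_singleton]
        by_contra h
        exact hcon p hp.1 h hp.1.one_lt hp.2.1
      rw [h2]
      have h4 := Finset.prod_dvd_prod_of_subset _ _ (fun p => p) h3
      rwa [Finset.prod_singleton] at h4
    have := Nat.le_of_dvd (by norm_num) h1
    omega

/-- Lucas: `k ≤ n % l` is impossible when `l ∣ C(n,k)`, `k < l`. -/
theorem mod_lt_of_dvd_choose {n k l : ℕ} (hl : l.Prime) (hkl : k < l) (hd : l ∣ n.choose k) :
    n % l < k := by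
  by_contra hcon
  push Not at hcon
  have : Fact l.Prime := ⟨hl⟩
  have h1 := Choose.choose_modEq_choose_mod_mul_choose_div_nat (n := n) (k := k) (p := l)
  rw [Nat.mod_eq_of_lt hkl, Nat.div_eq_of_lt hkl, Nat.choose_zero_right, mul_one] at h1
  have h2 : l ∣ (n % l).choose k := (Nat.ModEq.dvd_iff h1 dvd_rfl).1 hd
  have h3 : (n % l).choose k ∣ (n % l)! := by
    rw [← Nat.choose_mul_factorial_mul_factorial hcon, mul_assoc]
    exact Dvd.intro _ rfl
  have h4 := (Nat.Prime.dvd_factorial hl).1 (h2.trans h3)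
  exact absurd (Nat.mod_lt n hl.pos) (by omega)

end Cfsg.Agent.H394.SqNum
end

-- part: H394/SqAlt
section
/-!
# `SQ` for the alternating groups
-/

set_option autoImplicit false

namespace Cfsg.Agent.H394.SqAlt

open MulAction Equiv Equiv.Perm Cfsg.Agent.H396 Cfsg.Agent.H394.SqBasic
open scoped Pointwise

/-- The permutation with `n / l` cycles of odd prime length `l`. -/
theorem exists_full (n l : ℕ) (hl : l.Prime) (hl2 : l ≠ 2) (hln : l ≤ n) :
    ∃ g : alternatingGroup (Fin n),
      (g : Perm (Fin n)).cycleType = Multiset.replicate (n / l) l ∧ orderOf g = l := by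
  obtain ⟨σ, hσ⟩ : ∃ σ : Perm (Fin n), σ.cycleType = Multiset.replicate (n / l) l := by
    rw [exists_with_cycleType_iff, Multiset.sum_replicate, smul_eq_mul, Fintype.card_fin]
    refine ⟨Nat.div_mul_le_self n l, ?_⟩
    intro a ha
    rw [Multiset.eq_of_mem_replicate ha]
    exact hl.two_le
  have hodd : Odd l := hl.odd_of_ne_two hl2
  have hs : Equiv.Perm.sign σ = 1 := by
    rw [sign_of_cycleType, hσ, Multiset.sum_replicate, Multiset.card_replicate, smul_eq_mul]
    apply Even.neg_one_pow
    have : n / l * l + n / l = n / l * (l + 1) := by ring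
    rw [this]
    exact (hodd.add_odd odd_one).mul_left _
  have hpos : 0 < n / l := Nat.div_pos hln hl.pos
  have ho : orderOf σ = l := by
    rw [← lcm_cycleType, hσ]
    apply Nat.dvd_antisymm
    · rw [Multiset.lcm_dvd]
      intro b hb
      rw [Multiset.eq_of_mem_replicate hb]
    · apply Multiset.dvd_lcm
      rw [Multiset.mem_replicate]
      exact ⟨by omega, rfl⟩
  refine ⟨⟨σ, mem_alternatingGroup.2 hs⟩, hσ, ?_⟩
  rw [← Subgroup.orderOf_coe]
  exact ho

theorem card_fixed_of_cycleType {n l : ℕ} {σ : Perm (Fin n)}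
    (hσ : σ.cycleType = Multiset.replicate (n / l) l) :
    (Finset.univ.filter (fun x => σ x = x)).card = n % l := by
  have h1 : σ.support.card = n / l * l := by
    rw [← sum_cycleType, hσ, Multiset.sum_replicate, smul_eq_mul]
  have h2 : (Finset.univ.filter (fun x => σ x = x)) = σ.supportᶜ := by
    ext x
    simp
  rw [h2, Finset.card_compl, Fintype.card_fin, h1]
  have := Nat.div_add_mod' n l
  omega

section

variable {n : ℕ} (M : Subgroup (alternatingGroup (Fin n)))

/-- Intransitive case. -/
theorem intrans (hn : 5 ≤ n) (hsq : Squarefree M.index)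
    (hall : ∀ g : alternatingGroup (Fin n), (orderOf g).Prime → ∃ π : Perm (Fin n),
      ∃ h ∈ M, (h : Perm (Fin n)) = π * g * π⁻¹)
    (Δ : Finset (Fin n)) (hΔ1 : 1 ≤ Δ.card) (hΔ2 : 2 * Δ.card ≤ n)
    (hinv : ∀ g ∈ M, ∀ x ∈ Δ, (g : Perm (Fin n)) x ∈ Δ) : False := by
  set k := Δ.card with hk
  let s : Set.powersetCard (Fin n) k := ⟨Δ, hk.symm⟩
  have hmt : IsMultiplyPretransitive (alternatingGroup (Fin n)) (Fin n) (Nat.card (Fin n) - 2) :=
    alternatingGroup.isMultiplyPretransitive (Fin n)
  have hcn : Nat.card (Fin n) = n := by rw [Nat.card_eq_fintype_card, Fintype.card_fin]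
  rw [hcn] at hmt
  have hmk : IsMultiplyPretransitive (alternatingGroup (Fin n)) (Fin n) k :=
    MulAction.isMultiplyPretransitive_of_le (n := n - 2) (by omega)
      (by rw [hcn]; omega)
  letI inst : MulAction (alternatingGroup (Fin n)) (Set.powersetCard (Fin n) k) :=
    Set.powersetCard.instMulActionElemFinset (alternatingGroup (Fin n))
  have htr := Set.powersetCard.isPretransitive_of_isMultiplyPretransitive
    (alternatingGroup (Fin n)) (α := Fin n) (n := k) hmk
  have hMs : M ≤ stabilizer (alternatingGroup (Fin n)) s := by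
    intro g hg
    rw [mem_stabilizer_iff]
    apply Subtype.ext
    show g • Δ = Δ
    apply Finset.eq_of_subset_of_card_le
    · intro y hy
      obtain ⟨x, hx, rfl⟩ := Finset.mem_smul_finset.1 hy
      exact hinv g hg x hx
    · rw [Finset.card_smul_finset]
  have hidx : (stabilizer (alternatingGroup (Fin n)) s).index = n.choose k := by
    rw [index_stabilizer_of_transitive, Set.powersetCard.card, hcn]
  have hsqc : Squarefree (n.choose k) := by
    rw [← hidx]; exact hsq.squarefree_of_dvd (Subgroup.index_dvd_of_le hMs)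
  obtain ⟨l, hl, hl2, hkl, hld⟩ := SqNum.exists_odd_prime_gt (by omega) hΔ1 hΔ2 hsqc
  have hln : l ≤ n := by
    have h1 : n.choose k ∣ n.factorial := by
      rw [← Nat.choose_mul_factorial_mul_factorial (show k ≤ n by omega), mul_assoc]
      exact Dvd.intro _ rfl
    exact (hl.dvd_factorial).1 (hld.trans h1)
  obtain ⟨g, hg, ho⟩ := exists_full n l hl hl2 hln
  obtain ⟨π, h, hhM, hh⟩ := hall g (by rw [ho]; exact hl)
  have hct : (h : Perm (Fin n)).cycleType = Multiset.replicate (n / l) l := by
    rw [hh, cycleType_conj, hg]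
  have hhl : h ^ l = 1 := by
    apply Subtype.ext
    rw [Subgroup.coe_pow, hh, conj_pow]
    have : (g : Perm (Fin n)) ^ l = 1 := by
      rw [← Subgroup.coe_pow, ← ho, pow_orderOf_eq_one]; rfl
    rw [this, mul_one, mul_inv_cancel]; rfl
  have hfix : ∀ x ∈ Δ, (h : Perm (Fin n)) x = x := by
    intro x hx
    exact fix_of_lt (G := alternatingGroup (Fin n)) hl hhl (Δ : Set (Fin n)) (Finset.finite_toSet Δ)
      (fun y hy => hinv h hhM y hy) (by rw [Set.ncard_coe_finset]; exact hkl) x hx
  have h1 : Δ ⊆ Finset.univ.filter (fun x => (h : Perm (Fin n)) x = x) := by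
    intro x hx
    rw [Finset.mem_filter]
    exact ⟨Finset.mem_univ _, hfix x hx⟩
  have h2 := Finset.card_le_card h1
  rw [card_fixed_of_cycleType hct] at h2
  have h3 := SqNum.mod_lt_of_dvd_choose hl hkl hld
  omega

/-- Transitivity. -/
theorem trans_of (hn : 5 ≤ n) (hsq : Squarefree M.index)
    (hall : ∀ g : alternatingGroup (Fin n), (orderOf g).Prime → ∃ π : Perm (Fin n),
      ∃ h ∈ M, (h : Perm (Fin n)) = π * g * π⁻¹) :
    IsPretransitive (M.map (alternatingGroup (Fin n)).subtype) (Fin n) := by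
  classical
  by_contra hcon
  set M' := M.map (alternatingGroup (Fin n)).subtype with hM'
  have hex : ∃ x y : Fin n, y ∉ orbit M' x := by
    by_contra h
    push Not at h
    apply hcon
    exact ⟨fun x y => h x y⟩
  obtain ⟨x, y, hy⟩ := hex
  let Δ : Finset (Fin n) := (orbit M' x).toFinset
  have hinv : ∀ g ∈ M, ∀ z ∈ Δ, (g : Perm (Fin n)) z ∈ Δ := by
    intro g hg z hz
    rw [Set.mem_toFinset] at hz ⊢
    obtain ⟨m, rfl⟩ := hz
    have hgM : (g : Perm (Fin n)) ∈ M' := ⟨g, hg, rfl⟩
    refine ⟨⟨(g : Perm (Fin n)), hgM⟩ * m, ?_⟩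
    show ((⟨(g : Perm (Fin n)), hgM⟩ * m : M') • x : Fin n) = _
    rw [mul_smul]
    rfl
  have hinv' : ∀ g ∈ M, ∀ z ∈ Δᶜ, (g : Perm (Fin n)) z ∈ Δᶜ := by
    intro g hg z hz
    rw [Finset.mem_compl] at hz ⊢
    intro h
    apply hz
    have := hinv g⁻¹ (inv_mem hg) _ h
    rw [Subgroup.coe_inv, Equiv.Perm.inv_def, Equiv.symm_apply_apply] at this
    exact this
  have hx : x ∈ Δ := by rw [Set.mem_toFinset]; exact mem_orbit_self x
  have hy' : y ∈ Δᶜ := by rw [Finset.mem_compl, Set.mem_toFinset]; exact hy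
  have hc : Δᶜ.card = n - Δ.card := by rw [Finset.card_compl, Fintype.card_fin]
  have h1 : 1 ≤ Δ.card := Finset.card_pos.2 ⟨x, hx⟩
  have h2 : 1 ≤ Δᶜ.card := Finset.card_pos.2 ⟨y, hy'⟩
  rcases Nat.lt_or_ge n (2 * Δ.card) with h | h
  · exact intrans M hn hsq hall Δᶜ h2 (by omega) hinv'
  · exact intrans M hn hsq hall Δ h1 h hinv

/-- Primitivity. -/
theorem prim_of (hn : 5 ≤ n) (hsq : Squarefree M.index)
    (hall : ∀ g : alternatingGroup (Fin n), (orderOf g).Prime → ∃ π : Perm (Fin n),
      ∃ h ∈ M, (h : Perm (Fin n)) = π * g * π⁻¹) :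
    IsPreprimitive (M.map (alternatingGroup (Fin n)).subtype) (Fin n) := by
  classical
  have htr := trans_of M hn hsq hall
  set M' := M.map (alternatingGroup (Fin n)).subtype with hM'
  obtain ⟨l, hl, hl1, hl2⟩ := Nat.exists_prime_lt_and_le_two_mul (n / 2) (by omega)
  have hln : l ≤ n := by omega
  have h2l : n < 2 * l := by omega
  obtain ⟨g, hg, ho⟩ := exists_full n l hl (by omega) hln
  obtain ⟨π, h, hhM, hh⟩ := hall g (by rw [ho]; exact hl)
  have hhl : (h : Perm (Fin n)) ^ l = 1 := by
    rw [hh, conj_pow]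
    have : (g : Perm (Fin n)) ^ l = 1 := by
      rw [← Subgroup.coe_pow, ← ho, pow_orderOf_eq_one]; rfl
    rw [this, mul_one, mul_inv_cancel]
  have hh1 : (h : Perm (Fin n)) ≠ 1 := by
    intro h1
    rw [hh] at h1
    have h2 : (g : Perm (Fin n)) = 1 := by
      have := congrArg (fun z => π⁻¹ * z * π) h1
      simpa [mul_assoc] using this
    have h3 : g = 1 := Subtype.ext h2
    rw [h3, orderOf_one] at ho
    exact hl.one_lt.ne ho
  let hM : M' := ⟨(h : Perm (Fin n)), ⟨h, hhM, rfl⟩⟩
  have hMl : hM ^ l = 1 := Subtype.ext hhl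
  have hne : Nonempty (Fin n) := ⟨⟨0, by omega⟩⟩
  refine ⟨fun {B} hB => ?_⟩
  by_contra hnt
  rw [IsTrivialBlock, not_or] at hnt
  obtain ⟨hns, hnu⟩ := hnt
  have hBne : B.Nonempty := by
    by_contra h0
    rw [Set.not_nonempty_iff_eq_empty] at h0
    exact hns (h0 ▸ Set.subsingleton_empty)
  have hcard := hB.ncard_block_mul_ncard_orbit_eq hBne
  have hcn : Nat.card (Fin n) = n := by rw [Nat.card_eq_fintype_card, Fintype.card_fin]
  rw [hcn] at hcard
  have hB2 : 2 ≤ B.ncard := by
    rw [Nat.succ_le_iff, Set.one_lt_ncard (Set.toFinite B)]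
    rw [Set.not_subsingleton_iff] at hns
    obtain ⟨a, ha, b, hb, hab⟩ := hns
    exact ⟨a, ha, b, hb, hab⟩
  have hO2 : 2 ≤ (orbit M' B).ncard := by
    by_contra hlt
    have h1 : (orbit M' B).ncard = 0 ∨ (orbit M' B).ncard = 1 := by omega
    rcases h1 with h1 | h1
    · rw [h1] at hcard; omega
    · rw [h1, mul_one] at hcard
      apply hnu
      apply Set.eq_of_subset_of_ncard_le (Set.subset_univ B)
      rw [Set.ncard_univ, hcn, hcard]
  have hO : (orbit M' B).ncard < l := by
    by_contra hge
    push Not at hge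
    have : 2 * l ≤ B.ncard * (orbit M' B).ncard := Nat.mul_le_mul hB2 hge
    omega
  have hBl : B.ncard < l := by
    by_contra hge
    push Not at hge
    have : l * 2 ≤ B.ncard * (orbit M' B).ncard := Nat.mul_le_mul hge hO2
    omega
  -- `hM` fixes every block in the orbit
  have hfixB : ∀ C ∈ orbit M' B, hM • C = C := by
    intro C hC
    refine fix_of_lt hl hMl (orbit M' B) (Set.toFinite _) ?_ hO C hC
    intro D hD
    exact MulAction.mem_orbit_of_mem_orbit hM hD
  apply hh1
  ext x : 1
  -- `x` lies in some block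
  obtain ⟨b, hb⟩ := hBne
  obtain ⟨m, hm⟩ := htr.exists_smul_eq b x
  have hx : x ∈ m • B := by rw [← hm]; exact Set.smul_mem_smul_set hb
  have h1 := hfixB (m • B) ⟨m, rfl⟩
  have h2 := fix_of_lt hl hMl (m • B) (Set.toFinite _) (fun y hy => by
    have : hM • y ∈ hM • (m • B) := Set.smul_mem_smul_set hy
    rwa [h1] at this) (by rw [Set.ncard_smul_set]; exact hBl) x hx
  exact h2

end

theorem sq_large (n : ℕ) (hn : 7 ≤ n) : SQ (alternatingGroup (Fin n)) := by
  intro M hM hsq
  left
  by_contra hD
  obtain ⟨ψ, hψ⟩ := Cfsg.Agent.StandardComponent.AltAut.exists_autHom n hn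
  have hall : ∀ g : alternatingGroup (Fin n), (orderOf g).Prime → ∃ π : Perm (Fin n),
      ∃ h ∈ M, (h : Perm (Fin n)) = π * g * π⁻¹ := by
    intro g hg
    by_contra hcon
    push Not at hcon
    exact hD ⟨g, hg, fun φ hφ => hcon (ψ φ) (φ g) hφ (hψ φ g)⟩
  have hprim := prim_of M (by omega) hsq hall
  obtain ⟨c, hc⟩ : ∃ σ : Perm (Fin n), σ.cycleType = {3} := by
    rw [exists_with_cycleType_iff]
    simp only [Multiset.sum_singleton, Multiset.mem_singleton, forall_eq, Fintype.card_fin]
    omega
  have hc3 : c.IsThreeCycle := hc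
  obtain ⟨π, h, hhM, hh⟩ := hall ⟨c, hc3.mem_alternatingGroup⟩ (by
    rw [← Subgroup.orderOf_coe, hc3.orderOf]
    exact Nat.prime_three)
  have hh3 : (h : Perm (Fin n)).IsThreeCycle := by
    rw [hh]
    show (π * c * π⁻¹).cycleType = {3}
    rw [cycleType_conj, hc]
  have hle := alternatingGroup_le_of_isPreprimitive_of_isThreeCycle_mem hprim hh3 ⟨h, hhM, rfl⟩
  apply hM
  rw [eq_top_iff]
  intro g _
  obtain ⟨g', hg', hgg⟩ := hle g.2
  rw [← Subtype.ext (p := (· ∈ alternatingGroup (Fin n))) hgg]
  exact hg'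

theorem card_alt (n : ℕ) (hn : 2 ≤ n) : Nat.card (alternatingGroup (Fin n)) = n.factorial / 2 := by
  have : Nontrivial (Fin n) := Fin.nontrivial_iff_two_le.2 hn
  rw [nat_card_alternatingGroup, Nat.card_eq_fintype_card, Fintype.card_fin]

theorem sq_five : SQ (alternatingGroup (Fin 5)) := by
  intro M hM hsq
  left
  by_contra hD
  have hcard : Nat.card (alternatingGroup (Fin 5)) = 60 := card_alt 5 (by norm_num)
  have hS := index_dvd_of_not_der hsq hD {2} (by
    intro r hr hrr
    rw [hcard] at hrr
    have h1 : r ≤ 7 := by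
      by_contra h
      push Not at h
      have := Nat.le_of_dvd (by norm_num) hrr
      nlinarith
    interval_cases r <;> first | decide | (exfalso; revert hr; norm_num; done) |
      (exfalso; revert hrr; norm_num; done))
  rw [Finset.prod_singleton] at hS
  have h2 := Nat.le_of_dvd (by norm_num) hS
  have h5 := le_index_of_prime_dvd hM (p := 5) (by norm_num) (by rw [hcard]; norm_num)
  omega

theorem sq_six : SQ (alternatingGroup (Fin 6)) := by
  intro M hM hsq
  by_cases hD : Der (alternatingGroup (Fin 6)) M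
  · exact Or.inl hD
  right
  refine ⟨⟨MulEquiv.refl _⟩, ?_⟩
  have hcard : Nat.card (alternatingGroup (Fin 6)) = 360 := card_alt 6 (by norm_num)
  have hsimple : IsSimpleGroup (alternatingGroup (Fin 6)) :=
    alternatingGroup.isSimpleGroup (by rw [Nat.card_eq_fintype_card, Fintype.card_fin]; norm_num)
  have hS := index_dvd_of_not_der hsq hD {2, 3} (by
    intro r hr hrr
    rw [hcard] at hrr
    have h1 : r ≤ 18 := by
      by_contra h
      push Not at h
      have := Nat.le_of_dvd (by norm_num) hrr
      nlinarith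
    interval_cases r <;> first | decide | (exfalso; revert hr; norm_num; done) |
      (exfalso; revert hrr; norm_num; done))
  rw [Finset.prod_pair (by norm_num)] at hS
  have h2 := Nat.le_of_dvd (by norm_num) hS
  have h5 := le_index_of_prime_dvd hM (p := 5) (by norm_num) (by rw [hcard]; norm_num)
  have h3 : M.index = 5 ∨ M.index = 6 := by omega
  rcases h3 with h3 | h3
  · rw [h3] at hS; omega
  · exact h3

/-- **`SQ` for the alternating groups.** -/
theorem sq_alt {T : Type*} [Group T] (h : Cfsg.IsAlternating T) : SQ T := by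
  obtain ⟨n, hn, ⟨e⟩⟩ := h
  refine SQ.congr e.symm ?_
  rcases Nat.lt_or_ge n 7 with h7 | h7
  · have h8 : n = 5 ∨ n = 6 := by omega
    rcases h8 with rfl | rfl
    · exact sq_five
    · exact sq_six
  · exact sq_large n h7

end Cfsg.Agent.H394.SqAlt
end
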